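import Cfsg.Agent.Lib.FpfS.KL
import Cfsg.Agent.Lib.FPF.Height

/-!
Cores, Fitting height and `p`-length of `C_G(H)` for solvable `G`, for any class of actions that is
closed under quotients, covers the `H`-fixed points and satisfies the key lemma.
-/

set_option autoImplicit false

namespace CfsgLib.FpfS

open Subgroup CfsgLib.Coprime CfsgLib.Solv CfsgLib.KMS CfsgLib.FPF Cfsg
open scoped Pointwise IsMulCommutative

universe u v

variable {A : Type v} [Group A]

/-- a class of actions of `A` -/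
structure Cls (H : Subgroup A) (P : ∀ (G : Type u) [Group G], (A →* MulAut G) → Prop) : Prop where
  quot : ∀ {G G' : Type u} [Group G] [Finite G] [Group G'] {φ : A →* MulAut G} {φ' : A →* MulAut G'}
    (f : G →* G'), Function.Surjective f → (∀ a g, f (φ a g) = φ' a (f g)) → IsMulCommutative f.ker →
    ∀ p : ℕ, p.Prime → IsPGroup p f.ker → P G φ → P G' φ' ∧ fix φ' H ≤ (fix φ H).map f
  key : ∀ {G : Type u} [Group G] [Finite G] {φ : A →* MulAut G} (N : Subgroup G) [N.Normal],
    AutInv φ N → IsMulCommutative N → ∀ p q : ℕ, p.Prime → q.Prime → p ≠ q → IsPGroup p N → P G φ →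
    ∀ c : G, (c : G ⧸ N) ∈ pCore q (G ⧸ N) → (∀ v ∈ N, v ∈ fix φ H → c * v = v * c) →
    ∀ v ∈ N, c * v = v * c

variable {H : Subgroup A} {P : ∀ (G : Type u) [Group G], (A →* MulAut G) → Prop}

theorem map_fix_le {G G' : Type u} [Group G] [Group G'] {φ : A →* MulAut G} {φ' : A →* MulAut G'}
    {f : G →* G'} (he : ∀ a g, f (φ a g) = φ' a (f g)) : (fix φ H).map f ≤ fix φ' H := by
  rintro _ ⟨g, hg, rfl⟩
  exact mem_fix.2 fun a ha => by rw [← he, mem_fix.1 hg a ha]

theorem card_quot_lt {G : Type u} [Group G] [Finite G] {N : Subgroup G} (h : N ≠ ⊥) :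
    Nat.card (G ⧸ N) < Nat.card G := by
  rw [card_eq_card_quotient_mul_card_subgroup N]
  exact lt_mul_of_one_lt_right Nat.card_pos ((one_lt_card_iff_ne_bot N).2 h)

theorem Cls.quot_aux (h : Cls H P) (n : ℕ) : ∀ {G G' : Type u} [Group G] [Finite G] [Group G']
    {φ : A →* MulAut G} {φ' : A →* MulAut G'} (f : G →* G'), Nat.card G = n → Group.IsSolvable G →
    Function.Surjective f → (∀ a g, f (φ a g) = φ' a (f g)) → P G φ →
    P G' φ' ∧ fix φ' H ≤ (fix φ H).map f := by
  induction n using Nat.strong_induction_on with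
  | _ n ih =>
  intro G G' _ _ _ φ φ' f hn hs hf he hP
  by_cases hk : f.ker = ⊥
  · refine h.quot f hf he ?_ 2 Nat.prime_two ?_ hP
    · rw [hk]; infer_instance
    · rw [hk]; exact IsPGroup.of_bot
  have hi : AutInv φ f.ker := fun a x hx => by
    rw [MonoidHom.mem_ker, he, MonoidHom.mem_ker.1 hx, map_one]
  obtain ⟨p, N, hp, _, hNi, hle, hN1, hc, hNp⟩ := exists_inv_elem hi inferInstance hk
  obtain ⟨h1, h2⟩ := h.quot (φ' := quotAut φ N hNi) (QuotientGroup.mk' N) (QuotientGroup.mk'_surjective N)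
    (fun _ _ => rfl) (by rwa [QuotientGroup.ker_mk']) p hp (by rwa [QuotientGroup.ker_mk']) hP
  obtain ⟨h3, h4⟩ := ih _ (hn ▸ card_quot_lt hN1) (φ := quotAut φ N hNi) (φ' := φ')
    (QuotientGroup.lift N f hle) rfl inferInstance
    (fun y => by obtain ⟨x, rfl⟩ := hf y; exact ⟨x, rfl⟩)
    (fun a g => by obtain ⟨x, rfl⟩ := QuotientGroup.mk_surjective g; exact he a x) h1
  refine ⟨h3, fun y hy => ?_⟩
  obtain ⟨z, hz, rfl⟩ := h4 hy
  obtain ⟨x, hx, rfl⟩ := h2 hz
  exact ⟨x, hx, rfl⟩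

variable {G : Type u} [Group G] [Finite G] {φ : A →* MulAut G}

theorem Cls.quot' (h : Cls H P) (hs : Group.IsSolvable G) (hP : P G φ) {N : Subgroup G} [N.Normal]
    (hN : AutInv φ N) :
    P (G ⧸ N) (quotAut φ N hN) ∧ (fix φ H).map (QuotientGroup.mk' N) = fix (quotAut φ N hN) H := by
  obtain ⟨h1, h2⟩ := h.quot_aux _ (φ' := quotAut φ N hN) (QuotientGroup.mk' N) rfl hs
    (QuotientGroup.mk'_surjective N) (fun _ _ => rfl) hP
  exact ⟨h1, le_antisymm (map_fix_le fun _ _ => rfl) h2⟩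

theorem Cls.pCore_aux (h : Cls H P) {q : ℕ} (hq : q.Prime) (n : ℕ) : ∀ {G : Type u} [Group G] [Finite G]
    {φ : A →* MulAut G}, Nat.card G = n → Group.IsSolvable G → P G φ → ∀ {D : Subgroup G},
    D ≤ fix φ H → fix φ H ≤ normalizer (D : Set G) → IsPGroup q D → D ≤ pCore q G := by
  induction n using Nat.strong_induction_on with
  | _ n ih =>
  intro G _ _ φ hn hs hP D hD hDn hDq
  rcases subsingleton_or_nontrivial G with hG | hG
  · exact fun x _ => by rw [Subsingleton.elim x 1]; exact one_mem _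
  obtain ⟨p, N, hp, _, hNi, -, hN1, hc, hNp⟩ :=
    exists_inv_elem (φ := φ) (K := ⊤) autInv_top inferInstance top_ne_bot
  obtain ⟨h1, h2⟩ := h.quot' hs hP hNi
  have h3 : D.map (QuotientGroup.mk' N) ≤ pCore q (G ⧸ N) :=
    ih _ (hn ▸ card_quot_lt hN1) rfl inferInstance h1 (h2 ▸ map_mono hD)
      (h2 ▸ (map_mono hDn).trans (le_normalizer_map _)) (hDq.map _)
  by_cases hpq : p = q
  · subst hpq
    rw [← Core.comap_mk'_pCore hNp]
    exact map_le_iff_le_comap.1 h3
  have := Fact.mk hp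
  have := Fact.mk hq
  have hDN : D ⊓ N = ⊥ := disjoint_iff.1 (IsPGroup.disjoint_of_ne q p (Ne.symm hpq) D N hDq hNp)
  have h4 : D ≤ centralizer (N : Set G) := fun c hc v hv => (h.key N hNi ‹_› p q hp hq hpq hNp hP c
    (h3 ⟨c, hc, rfl⟩) (fun w hw hwf => by
      have : c⁻¹ * (w * c * w⁻¹) ∈ D ⊓ N :=
        ⟨D.mul_mem (D.inv_mem hc) ((mem_normalizer_iff.1 (hDn hwf) c).1 hc), by
          have := N.mul_mem (‹N.Normal›.conj_mem w hw c⁻¹) (N.inv_mem hw)
          simpa [mul_assoc] using this⟩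
      rw [hDN, mem_bot, inv_mul_eq_one, eq_mul_inv_iff_mul_eq] at this
      exact this) v hv).symm
  let R : Subgroup G := (pCore q (G ⧸ N)).comap (QuotientGroup.mk' N) ⊓ centralizer (N : Set G)
  have hR : Group.IsNilpotent R := isNilpotent_of_le_centralizer (V := N) inf_le_right
    ((Core.isPGroup_pCore q (G ⧸ N)).to_le (map_le_iff_le_comap.2 inf_le_left)).isNilpotent
  exact Core.le_pCore_of_le_fittingSubgroup ((le_inf (map_le_iff_le_comap.1 h3) h4).trans
    (Core.le_fittingSubgroup hR)) hDq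

theorem Cls.map_pCore_le (h : Cls H P) (hs : Group.IsSolvable G) (hP : P G φ) {q : ℕ} (hq : q.Prime) :
    (pCore q (fix φ H)).map (fix φ H).subtype ≤ pCore q G :=
  h.pCore_aux hq _ rfl hs hP (map_subtype_le _)
    (le_normalizer.trans (Core.normalizer_le_normalizer_map_pCore _)) (Core.isPGroup_map_pCore _)

theorem Cls.pCore_eq (h : Cls H P) (hs : Group.IsSolvable G) (hP : P G φ) {q : ℕ} (hq : q.Prime) :
    pCore q (fix φ H) = (pCore q G).subgroupOf (fix φ H) :=
  le_antisymm (map_le_iff_le_comap.1 (h.map_pCore_le hs hP hq)) (Core.pCore_subgroupOf_le _)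

theorem Cls.fitting_eq (h : Cls H P) (hs : Group.IsSolvable G) (hP : P G φ) :
    fittingSubgroup (fix φ H) = (fittingSubgroup G).subgroupOf (fix φ H) := by
  refine le_antisymm ?_ (Core.fittingSubgroup_subgroupOf_le _)
  rw [Core.fittingSubgroup_eq_iSup_pCore]
  exact iSup_le fun q => map_le_iff_le_comap.1
    ((h.map_pCore_le hs hP q.2).trans (Core.pCore_le_fittingSubgroup q.2))

theorem Cls.ordCore_aux (h : Cls H P) {S : ℕ → Prop} (hS : Core.IsOrdClass S) (n : ℕ) :
    ∀ {G : Type u} [Group G] [Finite G] {φ : A →* MulAut G}, Nat.card G = n → Group.IsSolvable G →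
    P G φ → ∀ {D : Subgroup G}, D ≤ fix φ H → fix φ H ≤ normalizer (D : Set G) → S (Nat.card D) →
    D ≤ Core.ordCore S G := by
  induction n using Nat.strong_induction_on with
  | _ n ih =>
  intro G _ _ φ hn hs hP D hD hDn hDq
  by_cases hD1 : D = ⊥
  · rw [hD1]; exact bot_le
  have := (nontrivial_iff_ne_bot D).2 hD1
  obtain ⟨q, hq, h1⟩ := Core.exists_pCore_ne_bot (G := D)
  have := Fact.mk hq
  have h2 : (pCore q D).map D.subtype ≤ pCore q G := h.pCore_aux hq _ rfl hs hP
    ((map_subtype_le _).trans hD) (hDn.trans (Core.normalizer_le_normalizer_map_pCore _))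
    (Core.isPGroup_map_pCore _)
  have hSq : S q := hS.of_dvd ((Core.dvd_card_of_isPGroup_of_ne_bot (Core.isPGroup_pCore q D) h1).trans
    (card_subgroup_dvd_card _)) hDq
  have := Core.pCore_characteristic q G
  obtain ⟨p, N, hp, _, hNi, hle, hN1, hc, hNp⟩ :=
    exists_inv_elem (φ := φ) (K := pCore q G) (autInv_of_characteristic _) inferInstance fun e => h1 (by
      rwa [e, le_bot_iff, map_eq_bot_iff_of_injective _ D.subtype_injective] at h2)
  obtain ⟨h3, h4⟩ := h.quot' hs hP hNi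
  have h5 := ih _ (hn ▸ card_quot_lt hN1) rfl inferInstance h3 (h4 ▸ map_mono hD)
    (h4 ▸ (map_mono hDn).trans (le_normalizer_map _)) (hS.of_dvd (card_map_dvd _ _) hDq)
  refine (map_le_iff_le_comap.1 h5).trans (hS.comap_ordCore_le ?_)
  obtain ⟨k, hk⟩ := ((Core.isPGroup_pCore q G).to_le hle).exists_card_eq
  rw [QuotientGroup.ker_mk', hk]
  clear hk
  induction k with
  | zero => exact hS.one
  | succ k ih => rw [pow_succ]; exact hS.mul ih hSq

theorem Cls.ordCore_eq (h : Cls H P) (hs : Group.IsSolvable G) (hP : P G φ) {S : ℕ → Prop}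
    (hS : Core.IsOrdClass S) :
    Core.ordCore S (fix φ H) = (Core.ordCore S G).subgroupOf (fix φ H) :=
  le_antisymm (map_le_iff_le_comap.1 (h.ordCore_aux hS _ rfl hs hP (map_subtype_le _)
    (le_normalizer.trans (hS.normalizer_le_normalizer_map_ordCore _)) (hS.card_map_ordCore _)))
    (hS.ordCore_subgroupOf_le _)

theorem Cls.piCore_eq (h : Cls H P) (hs : Group.IsSolvable G) (hP : P G φ) (π : Set ℕ) :
    piCore π (fix φ H) = (piCore π G).subgroupOf (fix φ H) := by
  have := h.ordCore_eq hs hP (Core.isOrdClass_pi π)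
  unfold Core.ordCore at this
  unfold piCore
  exact this

theorem Cls.pPrimeCore_eq (h : Cls H P) (hs : Group.IsSolvable G) (hP : P G φ) (p : ℕ) :
    pPrimeCore p (fix φ H) = (pPrimeCore p G).subgroupOf (fix φ H) := by
  rw [Core.pPrimeCore_eq_ordCore, Core.pPrimeCore_eq_ordCore]
  exact h.ordCore_eq hs hP (Core.isOrdClass_coprime p)

/-- only the trivial group of the class has trivial `H`-fixed points -/
def Triv (H : Subgroup A) (P : ∀ (G : Type u) [Group G], (A →* MulAut G) → Prop) : Prop :=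
  ∀ (G : Type u) [Group G] [Finite G] (φ : A →* MulAut G), Group.IsSolvable G → P G φ →
    fix φ H = ⊥ → Subsingleton G

theorem Cls.eq_top (h : Cls H P) (ht : Triv H P) (hs : Group.IsSolvable G) (hP : P G φ) {N : Subgroup G}
    [N.Normal] (hN : AutInv φ N) (hle : fix φ H ≤ N) : N = ⊤ := by
  obtain ⟨h1, h2⟩ := h.quot' hs hP hN
  have := ht _ _ inferInstance h1 (by
    rw [← h2, Subgroup.map_eq_bot_iff, QuotientGroup.ker_mk']; exact hle)
  exact eq_top_iff.2 fun x _ => (QuotientGroup.eq_one_iff x).1 (Subsingleton.elim _ _)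

theorem Cls.fitSer_aux (h : Cls H P) (ht : Triv H P) (n : ℕ) : ∀ {G : Type u} [Group G] [Finite G]
    {φ : A →* MulAut G}, Group.IsSolvable G → P G φ → fitSer n (fix φ H) = ⊥ →
    fitSer n (⊤ : Subgroup G) = ⊥ := by
  induction n with
  | zero =>
    intro G _ _ φ hs hP e
    have := ht _ _ hs hP e
    exact Subsingleton.elim _ _
  | succ n ih =>
    intro G _ _ φ hs hP e
    have := Core.fittingSubgroup_characteristic G
    obtain ⟨h1, h2⟩ := h.quot' hs hP (autInv_of_characteristic (φ := φ) (fittingSubgroup G))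
    have h3 : fitSer n (fix φ H) ≤ fittingSubgroup G :=
      (Core.le_map_fittingSubgroup (fitSer_le n _) (le_normalizer.trans (normalizer_le_normalizer_fitSer n _))
        (fitSer_succ_eq_bot_iff.1 e)).trans (by rw [h.fitting_eq hs hP]; exact map_comap_le _ _)
    have h4 := ih inferInstance h1 (by
      rw [← h2, ← map_fitSer, Subgroup.map_eq_bot_iff, QuotientGroup.ker_mk']; exact h3)
    rw [← map_top_of_surjective _ (QuotientGroup.mk'_surjective (fittingSubgroup G)), ← map_fitSer,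
      Subgroup.map_eq_bot_iff, QuotientGroup.ker_mk'] at h4
    have := Core.isNilpotent_fittingSubgroup G
    exact fitSer_succ_eq_bot_iff.2 (Group.nilpotent_of_mulEquiv (subgroupOfEquivOfLe h4))

theorem Cls.fitSer_iff (h : Cls H P) (ht : Triv H P) (hs : Group.IsSolvable G) (hP : P G φ) (n : ℕ) :
    fitSer n (⊤ : Subgroup G) = ⊥ ↔ fitSer n (⊤ : Subgroup (fix φ H)) = ⊥ := by
  rw [fitSer_top_eq_bot_iff]
  exact ⟨fun e => le_bot_iff.1 (e ▸ fitSer_mono n le_top), h.fitSer_aux ht n hs hP⟩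

theorem comap_core {X Y : Type u} [Group X] [Group Y] {f : X →* Y} (hf : Function.Surjective f)
    {N : Subgroup X} [N.Normal] (hN : N = f.ker) {S : Subgroup (X ⧸ N)} {T : Subgroup Y}
    (h : ∀ e : (X ⧸ N) ≃* Y, S.map (e : X ⧸ N →* Y) = T) : S.comap (QuotientGroup.mk' N) = T.comap f := by
  subst hN
  rw [← h (QuotientGroup.quotientKerEquivOfSurjective f hf)]
  ext x
  exact (mem_map_iff_mem (f := (QuotientGroup.quotientKerEquivOfSurjective f hf : X ⧸ f.ker →* Y))
    (QuotientGroup.quotientKerEquivOfSurjective f hf).injective).symm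

omit [Finite G] in
theorem autInv_ups (p n : ℕ) : AutInv φ (upperPSeries p G n).1 := by
  induction n with
  | zero => exact autInv_bot
  | succ n ih =>
    have := Core.pCore_characteristic p (G ⧸ (upperPSeries p G n).1)
    have := Core.pPrimeCore_characteristic p (G ⧸ (upperPSeries p G n).1)
    by_cases hn : Even n
    · rw [CfsgLib.PLocal.Constr.upperPSeries_succ_of_even hn]; exact autInv_comap_char ih _
    · rw [CfsgLib.PLocal.Constr.upperPSeries_succ_of_odd hn]; exact autInv_comap_char ih _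

theorem Cls.ups_eq (h : Cls H P) (hs : Group.IsSolvable G) (hP : P G φ) {p : ℕ} (hp : p.Prime) (n : ℕ) :
    (upperPSeries p (fix φ H) n).1 = (upperPSeries p G n).1.subgroupOf (fix φ H) := by
  induction n with
  | zero => exact (bot_subgroupOf _).symm
  | succ n ih =>
    obtain ⟨h1, h2⟩ := h.quot' hs hP (autInv_ups (φ := φ) p n)
    let f : fix φ H →* fix (quotAut φ _ (autInv_ups (φ := φ) p n)) H :=
      ((QuotientGroup.mk' _).comp (fix φ H).subtype).codRestrict _ fun x => h2.le ⟨x, x.2, rfl⟩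
    have hf : Function.Surjective f := fun y => by
      obtain ⟨x, hx, e⟩ := h2.ge y.2
      exact ⟨⟨x, hx⟩, Subtype.ext e⟩
    have hk : (upperPSeries p (fix φ H) n).1 = f.ker := by
      rw [ih, MonoidHom.ker_codRestrict, ← MonoidHom.comap_ker, QuotientGroup.ker_mk']; rfl
    by_cases hn : Even n
    · rw [CfsgLib.PLocal.Constr.upperPSeries_succ_of_even hn, CfsgLib.PLocal.Constr.upperPSeries_succ_of_even hn,
        comap_core hf hk Core.map_equiv_pPrimeCore, h.pPrimeCore_eq inferInstance h1]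
      rfl
    · rw [CfsgLib.PLocal.Constr.upperPSeries_succ_of_odd hn, CfsgLib.PLocal.Constr.upperPSeries_succ_of_odd hn,
        comap_core hf hk Core.map_equiv_pCore, h.pCore_eq inferInstance h1 hp]
      rfl

theorem Cls.pLength_iff (h : Cls H P) (ht : Triv H P) (hs : Group.IsSolvable G) (hP : P G φ) {p : ℕ}
    (hp : p.Prime) (k : ℕ) : PLengthLE p k G ↔ PLengthLE p k (fix φ H) := by
  unfold PLengthLE
  rw [h.ups_eq hs hP hp, subgroupOf_eq_top]
  exact ⟨fun e => e ▸ le_top, h.eq_top ht hs hP (autInv_ups p _)⟩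

/-! ### Frobenius groups -/

theorem cls_frob [Finite A] {F : Subgroup A} [F.Normal] (hF : Group.IsNilpotent F)
    (hfpf : ∀ h ∈ H, h ≠ 1 → F ⊓ centralizer {h} = ⊥) :
    Cls H fun (G : Type u) _ φ => fix φ F = ⊥ where
  quot {G G'} _ _ _ φ φ' f hf he hc p hp hk hP := by
    have hi : AutInv φ f.ker := fun a x hx => by
      rw [MonoidHom.mem_ker, he, MonoidHom.mem_ker.1 hx, map_one]
    have tr : ∀ (B : Subgroup A) (g : G), f g ∈ fix φ' B → (g : G ⧸ f.ker) ∈ fix (quotAut φ _ hi) B :=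
      fun B g hg => mem_fix.2 fun a ha => by
        rw [quotAut_mk, QuotientGroup.eq, MonoidHom.mem_ker, map_mul, map_inv, he, mem_fix.1 hg a ha,
          inv_mul_cancel]
    refine ⟨eq_bot_iff.2 fun y hy => ?_, fun y hy => ?_⟩
    · obtain ⟨g, rfl⟩ := hf y
      have := tr F g hy
      rw [fix_quot_eq_bot hF hP hi hp hk] at this
      exact (QuotientGroup.eq_one_iff g).1 this
    · obtain ⟨g, rfl⟩ := hf y
      obtain ⟨g', hg', e⟩ := exists_fix_lift le_normalizer_of_normal hfpf hP hi (tr H g hy)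
      refine ⟨g', hg', ?_⟩
      have := MonoidHom.mem_ker.1 (QuotientGroup.eq.1 e)
      rwa [map_mul, map_inv, inv_mul_eq_one] at this
  key {G} _ _ φ N _ hN hc p q hp hq hpq hNp hP c hcq hcv v hv := by
    have := Fact.mk hp
    have := Fact.mk hq
    have := Core.pCore_characteristic q (G ⧸ N)
    have hZi : AutInv (quotAut φ N hN) (pCore q (G ⧸ N)) := autInv_of_characteristic _
    have hZq := Core.isPGroup_pCore q (G ⧸ N)
    let ρ₀ : G ⧸ N →* MulAut N := QuotientGroup.lift N MulAut.conjNormal fun x hx =>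
      MulEquiv.ext fun v => Subtype.ext (by
        have := congrArg Subtype.val (mul_comm (⟨x, hx⟩ : N) v)
        simp only [coe_mul] at this
        simp [this])
    obtain ⟨E₁, E₂, -, _, -, h2, h3, h4, hsp⟩ := exists_split F hF hq
    have := key (ψ := subAut φ N hN) (ζ := subAut (quotAut φ N hN) _ hZi)
      (ρ := ρ₀.comp (pCore q (G ⧸ N)).subtype) (E := E₂) (H := H) ?_ le_normalizer_of_normal
      (fun h hh h1 => Frob.fpf_mono h2 (hfpf h hh h1)) (isSolvable_of_le inferInstance h2) hq hZq h4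
      (IsPGroup.coprime_card_of_ne q p hpq.symm _ _ hZq hNp)
      (fix_eq_bot_of_pgroup hq hZq h3 hsp (fix_sub_eq_bot (fix_quot_eq_bot hF hP hN hp hNp) hZi))
      (c := ⟨c, hcq⟩) (fun w hw => Subtype.ext (mul_inv_eq_iff_eq_mul.2 (hcv w w.2
        (mem_fix.2 fun a ha => congrArg Subtype.val (mem_fix.1 hw a ha))))) ⟨v, hv⟩
    · exact mul_inv_eq_iff_eq_mul.1 (congrArg Subtype.val this)
    · rintro a ⟨z, hz⟩ v
      obtain ⟨g, rfl⟩ := QuotientGroup.mk_surjective z
      refine Subtype.ext ?_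
      change φ a (g * v * g⁻¹) = φ a g * φ a v * (φ a g)⁻¹
      rw [map_mul, map_mul, map_inv]

theorem triv_frob [Finite A] {F : Subgroup A} [F.Normal] (hF : Group.IsNilpotent F)
    (hfpf : ∀ h ∈ H, h ≠ 1 → F ⊓ centralizer {h} = ⊥) :
    Triv H fun (G : Type u) _ φ => fix φ F = ⊥ := by
  intro G _ _ φ hs hP e
  by_contra hG
  have := not_subsingleton_iff_nontrivial.1 hG
  obtain ⟨p, N, hp, _, hNi, -, hN1, hc, hNp⟩ :=
    exists_inv_elem (φ := φ) (K := ⊤) autInv_top inferInstance top_ne_bot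
  obtain ⟨E₁, E₂, -, _, -, h2, h3, h4, hsp⟩ := exists_split F hF hp
  have := Fintype.ofFinite E₂
  have := Fintype.ofFinite H
  have := Fact.mk hp
  refine hN1 (eq_bot_iff.2 fun x hx => ?_)
  have h5 := prod_trace (ζ := subAut φ N hNi) le_normalizer_of_normal
    (fun h hh h1 => Frob.fpf_mono h2 (hfpf h hh h1))
    (fix_eq_bot_of_pgroup hp hNp h3 hsp (fix_sub_eq_bot hP hNi)) ⟨x, hx⟩
  rw [Finset.prod_eq_one fun f _ => by
    rw [prod_eq_one_of_fix (fix_sub_eq_bot e hNi), map_one]] at h5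
  obtain ⟨k, hk⟩ := hNp ⟨x, hx⟩
  exact congrArg Subtype.val (mem_bot.1 (mem_of_pow_mem_of_coprime (S := ⊥) (h4.pow_right k) h5.symm hk))

end CfsgLib.FpfS
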