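import Cfsg.Agent.S4396
import Cfsg.Agent.Lib.FPF.PQ
import Cfsg.Agent.Lib.LS.Weight
import Cfsg.Agent.Lib.HH.Weights
import Cfsg.Agent.Lib.Core.MinNormal

/-!
Clifford's dichotomy for a normal subgroup of prime index, degrees of irreducible representations of
solvable groups, and an element of `N` fixing the fixed vectors of `x` in `N ⟨x⟩`.
-/

set_option autoImplicit false

namespace CfsgLib.FpfS

open Subgroup Module CfsgLib.HH

universe u v

variable {k : Type*} [Field k]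

theorem finrank_of_free {V : Type*} [AddCommGroup V] [Module k V] [FiniteDimensional k V] {ι : Type*}
    [Fintype ι] (T : ι → End k V) (U : Submodule k V)
    (h1 : ∀ w : ι → V, (∀ i, w i ∈ U) → ∑ i, T i (w i) = 0 → ∀ i, w i = 0)
    (h2 : ⊤ ≤ ⨆ i, U.map (T i)) : finrank k V = Fintype.card ι * finrank k U := by
  classical
  let f : (ι → U) →ₗ[k] V := ∑ i, T i ∘ₗ U.subtype ∘ₗ LinearMap.proj i
  have hf : ∀ w, f w = ∑ i, T i (w i) := fun w => by simp [f]
  have hi : Function.Injective f := (injective_iff_map_eq_zero f).2 fun w hw =>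
    funext fun i => Subtype.ext (h1 (fun i => w i) (fun i => (w i).2) (hf w ▸ hw) i)
  have hs : Function.Surjective f := by
    rw [← LinearMap.range_eq_top, eq_top_iff]
    refine h2.trans (iSup_le fun i => ?_)
    rintro _ ⟨u, hu, rfl⟩
    refine ⟨Pi.single i ⟨u, hu⟩, ?_⟩
    rw [hf, Finset.sum_eq_single i (fun j _ hj => by simp [Pi.single_eq_of_ne hj]) (by simp)]
    simp
  rw [← (LinearEquiv.ofBijective f ⟨hi, hs⟩).finrank_eq, Module.finrank_pi_fintype]
  simp

section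
variable {G : Type*} [Group G] {V : Type*} [AddCommGroup V] [Module k V] [FiniteDimensional k V]

theorem rho_rho (ρ : Representation k G V) (g h : G) (v : V) : ρ g (ρ h v) = ρ (g * h) v := by
  rw [map_mul, End.mul_apply]

theorem exists_nonscalar (ρ : Representation k G V) (N : Subgroup G) [Finite N]
    (hN : (Nat.card N : k) ≠ 0) {U : Submodule k V} (hU : ∀ g ∈ N, ∀ v ∈ U, ρ g v ∈ U) (h0 : U ≠ ⊥)
    (h1 : U ≠ ⊤) : ∃ φ : End k V, (∀ g ∈ N, ρ g * φ = φ * ρ g) ∧ ∀ c : k, ¬ ∀ v, φ v = c • v := by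
  have := Fintype.ofFinite N
  obtain ⟨U', hc⟩ := U.exists_isCompl
  let π : End k V := U.subtype ∘ₗ U.projectionOnto U' hc
  have p1 : ∀ v, π v ∈ U := fun v => (U.projectionOnto U' hc v).2
  have p2 : ∀ v ∈ U, π v = v := fun v hv =>
    congrArg Subtype.val (Submodule.projectionOnto_apply_left hc ⟨v, hv⟩)
  refine ⟨∑ n : N, ρ n * π * ρ (n : G)⁻¹, fun g hg => ?_, fun c h => ?_⟩
  · rw [Finset.mul_sum, Finset.sum_mul]
    refine Fintype.sum_equiv (Equiv.mulLeft (⟨g, hg⟩ : N)) _ _ fun n => ?_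
    simp only [Equiv.coe_mulLeft, coe_mul, mul_inv_rev, map_mul, mul_assoc]
    rw [← map_mul ρ g⁻¹ g, inv_mul_cancel, map_one, mul_one]
  · obtain ⟨u, hu, hu0⟩ := Submodule.exists_mem_ne_zero_of_ne_bot h0
    have e : c = Nat.card N := by
      refine smul_left_injective k hu0 ?_
      change c • u = (Nat.card N : k) • u
      rw [← h u, LinearMap.sum_apply, Finset.sum_congr rfl (g := fun _ => u) fun n _ => by
        rw [End.mul_apply, End.mul_apply, p2 _ (hU _ (N.inv_mem n.2) u hu), rho_rho, mul_inv_cancel,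
          map_one, End.one_apply]]
      simp [Nat.cast_smul_eq_nsmul]
    refine h1 (eq_top_iff.2 fun v _ => (U.smul_mem_iff (e ▸ hN : c ≠ 0)).1 ?_)
    rw [← h v, LinearMap.sum_apply]
    exact U.sum_mem fun n _ => hU _ n.2 _ (p1 _)

theorem exists_min_inv (ρ : Representation k G V) (N : Subgroup G) {M : Submodule k V} (h0 : M ≠ ⊥)
    (hM : ∀ g ∈ N, ∀ v ∈ M, ρ g v ∈ M) : ∃ U ≤ M, U ≠ ⊥ ∧ (∀ g ∈ N, ∀ v ∈ U, ρ g v ∈ U) ∧
      ∀ U' ≤ U, (∀ g ∈ N, ∀ v ∈ U', ρ g v ∈ U') → U' = ⊥ ∨ U' = U := by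
  obtain ⟨U, ⟨a, b, c⟩, hmin⟩ := (wellFounded_lt (α := Submodule k V)).has_min
    {U | U ≠ ⊥ ∧ U ≤ M ∧ ∀ g ∈ N, ∀ v ∈ U, ρ g v ∈ U} ⟨M, h0, le_rfl, hM⟩
  refine ⟨U, b, a, c, fun U' h1 h2 => or_iff_not_imp_left.2 fun h3 => ?_⟩
  exact h1.eq_or_lt.resolve_right (hmin U' ⟨h3, h1.trans b, h2⟩)

/-- Clifford's dichotomy -/
theorem dich [IsAlgClosed k] (ρ : Representation k G V) (N : Subgroup G) [hn : N.Normal] [Finite N]
    (hN : (Nat.card N : k) ≠ 0) {x : G} {t : ℕ} (ht : t.Prime) (htk : (t : k) ≠ 0) (hx : x ^ t ∈ N)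
    (hirr : ∀ U : Submodule k V, (∀ g ∈ N, ∀ v ∈ U, ρ g v ∈ U) → (∀ v ∈ U, ρ x v ∈ U) → U = ⊥ ∨ U = ⊤) :
    (∀ U : Submodule k V, (∀ g ∈ N, ∀ v ∈ U, ρ g v ∈ U) → U = ⊥ ∨ U = ⊤) ∨
    ∃ U : Submodule k V, U ≠ ⊥ ∧ (∀ g ∈ N, ∀ v ∈ U, ρ g v ∈ U) ∧
      (∀ U' ≤ U, (∀ g ∈ N, ∀ v ∈ U', ρ g v ∈ U') → U' = ⊥ ∨ U' = U) ∧
      (∀ w : Fin t → V, (∀ i, w i ∈ U) → ∑ i : Fin t, ρ (x ^ (i : ℕ)) (w i) = 0 → ∀ i, w i = 0) ∧
      ⊤ ≤ ⨆ i : Fin t, U.map (ρ (x ^ (i : ℕ))) := by
  refine or_iff_not_imp_left.2 fun h => ?_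
  push Not at h
  obtain ⟨U₀, hU₀, h0, h1⟩ := h
  obtain ⟨φ₀, c0, c1⟩ := exists_nonscalar ρ N hN hU₀ h0 h1
  have : Nontrivial V := by
    obtain ⟨u, -, hu0⟩ := Submodule.exists_mem_ne_zero_of_ne_bot h0
    exact ⟨u, 0, hu0⟩
  let Φ : End k (End k V) := LinearMap.mulLeft k (ρ x⁻¹) * LinearMap.mulRight k (ρ x)
  have hΦ : ∀ φ, Φ φ = ρ x⁻¹ * (φ * ρ x) := fun _ => rfl
  have hΦn : ∀ (n : ℕ) φ, (Φ ^ n) φ = ρ (x ^ n)⁻¹ * (φ * ρ (x ^ n)) := fun n φ => by
    induction n with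
    | zero => simp
    | succ n ih =>
      rw [pow_succ', End.mul_apply, ih, hΦ, pow_succ, mul_inv_rev, map_mul, map_mul]
      simp only [mul_assoc]
  have inv : ∀ g : G, ρ g⁻¹ * ρ g = 1 := fun g => by rw [← map_mul, inv_mul_cancel, map_one]
  have inv' : ∀ g : G, ρ g * ρ g⁻¹ = 1 := fun g => by rw [← map_mul, mul_inv_cancel, map_one]
  have hC : ∀ φ, (∀ g ∈ N, ρ g * φ = φ * ρ g) → ∀ g ∈ N, ρ g * Φ φ = Φ φ * ρ g := fun φ h g hg => by
    have e := h _ (hn.conj_mem g hg x)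
    have e1 : ρ g * ρ x⁻¹ = ρ x⁻¹ * ρ (x * g * x⁻¹) := by rw [← map_mul, ← map_mul]; congr 1; group
    have e2 : ρ x * ρ g = ρ (x * g * x⁻¹) * ρ x := by rw [← map_mul, ← map_mul]; congr 1; group
    generalize x * g * x⁻¹ = y at e e1 e2
    rw [hΦ, ← mul_assoc, e1, mul_assoc, mul_assoc, mul_assoc, e2, ← mul_assoc _ φ, e, mul_assoc]
  let D : Submodule k (End k V) :=
    { carrier := {φ | (∀ g ∈ N, ρ g * φ = φ * ρ g) ∧ (∑ i ∈ Finset.range t, Φ ^ i) φ = 0}
      add_mem' := fun {a b} ha hb => ⟨fun g hg => by rw [mul_add, add_mul, ha.1 g hg, hb.1 g hg],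
        by rw [map_add, ha.2, hb.2, add_zero]⟩
      zero_mem' := ⟨fun g _ => by simp, map_zero _⟩
      smul_mem' := fun c a ha => ⟨fun g hg => by rw [mul_smul_comm, smul_mul_assoc, ha.1 g hg],
        by rw [map_smul, ha.2, smul_zero]⟩ }
  have hD : Φ φ₀ - φ₀ ∈ D := ⟨fun g hg => by rw [mul_sub, sub_mul, hC φ₀ c0 g hg, c0 g hg], by
    have e : (∑ i ∈ Finset.range t, Φ ^ i) (Φ φ₀ - φ₀) = (Φ ^ t - 1) φ₀ := by
      rw [← geom_sum_mul]; rfl
    rw [e, LinearMap.sub_apply, hΦn, ← c0 _ hx, ← mul_assoc, inv, one_mul, End.one_apply, sub_self]⟩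
  have hD0 : Φ φ₀ - φ₀ ≠ 0 := fun e => by
    have e1 : ρ x * φ₀ = φ₀ * ρ x := by
      conv_lhs => rw [← sub_eq_zero.1 e, hΦ, ← mul_assoc, inv', one_mul]
    obtain ⟨c, hc⟩ := End.exists_eigenvalue φ₀
    have key : ∀ g, ρ g * φ₀ = φ₀ * ρ g → ∀ v ∈ φ₀.eigenspace c, ρ g v ∈ φ₀.eigenspace c :=
      fun g hg v hv => by
        rw [End.mem_eigenspace_iff] at hv ⊢
        rw [← End.mul_apply, ← hg, End.mul_apply, hv, map_smul]
    have := (hirr _ (fun g hg => key g (c0 g hg)) (key x e1)).resolve_left hc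
    exact c1 c fun v => End.mem_eigenspace_iff.1 (this.ge trivial)
  obtain ⟨φ, ⟨d1, d2⟩, d0, d3⟩ := exists_common_eigenvector {Φ} (by simp) D
    (fun e => hD0 (by rwa [e] at hD)) (by
      rintro _ rfl a ha
      refine ⟨hC a ha.1, ?_⟩
      rw [← End.mul_apply, (Commute.sum_left _ _ _ fun i _ => (Commute.refl Φ).pow_left i).eq,
        End.mul_apply, ha.2, map_zero])
  obtain ⟨ζ, hζ⟩ := d3 Φ rfl
  have hp : ∀ n : ℕ, (Φ ^ n) φ = ζ ^ n • φ := fun n => by
    induction n with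
    | zero => simp
    | succ n ih => rw [pow_succ', End.mul_apply, ih, map_smul, hζ, smul_smul, pow_succ]
  have z1 : ζ ≠ 1 := by
    rintro rfl
    rw [LinearMap.sum_apply, Finset.sum_congr rfl fun i _ => hp i] at d2
    simp [← Nat.cast_smul_eq_nsmul k, htk, d0] at d2
  have z2 : ζ ^ t = 1 := smul_left_injective k d0 (by
    change ζ ^ t • φ = (1 : k) • φ
    rw [← hp, hΦn, ← d1 _ hx, ← mul_assoc, inv, one_mul, one_smul])
  have := Fact.mk ht
  have z3 : orderOf ζ = t := orderOf_eq_prime z2 z1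
  have hc : ∀ (n : ℕ) v, φ (ρ (x ^ n) v) = ζ ^ n • ρ (x ^ n) (φ v) := fun n v => by
    have := congrArg (fun a => (ρ (x ^ n) * a) v) ((hΦn n φ).symm.trans (hp n))
    simpa only [← mul_assoc, inv', one_mul, End.mul_apply, LinearMap.smul_apply, map_smul] using this
  have hk : LinearMap.ker φ = ⊥ := (hirr _ (fun g hg v hv => by
    rw [LinearMap.mem_ker, ← End.mul_apply, ← d1 g hg, End.mul_apply, LinearMap.mem_ker.1 hv, map_zero])
    fun v hv => by
      have := hc 1 v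
      rwa [LinearMap.mem_ker.1 hv, map_zero, smul_zero, pow_one] at this).resolve_right
    fun e => d0 (LinearMap.ker_eq_top.1 e)
  obtain ⟨μ, hμ⟩ := End.exists_eigenvalue φ
  have m0 : μ ≠ 0 := by
    rintro rfl
    exact hμ ((End.eigenspace_zero φ).trans hk)
  obtain ⟨U, hUle, u0, u1, u2⟩ := exists_min_inv ρ N hμ fun g hg v hv => by
    rw [End.mem_eigenspace_iff] at hv ⊢
    rw [← End.mul_apply, ← d1 g hg, End.mul_apply, hv, map_smul]
  refine ⟨U, u0, u1, u2, fun w hw hs i => ?_, ?_⟩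
  · have := LS.wsp_sum_eq_zero (fun _ : Unit => φ) (fun (i : Fin t) _ => ζ ^ (i : ℕ) * μ) Finset.univ
      (fun i _ j _ e => Fin.ext (pow_injOn_Iio_orderOf (x := ζ) (z3 ▸ i.2) (z3 ▸ j.2)
        (mul_right_cancel₀ m0 (congrFun e ())))) _ (fun i _ _ => by
        rw [hc, End.mem_eigenspace_iff.1 (hUle (hw i)), map_smul, smul_smul]) hs i (Finset.mem_univ i)
    have e := congrArg (ρ (x ^ (i : ℕ))⁻¹) this
    rwa [← End.mul_apply, inv, End.one_apply, map_zero] at e
  · set W := ⨆ i : Fin t, U.map (ρ (x ^ (i : ℕ)))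
    have hW : ∀ (n : ℕ), ∀ u ∈ U, ρ (x ^ n) u ∈ W := fun n u hu => by
      refine Submodule.mem_iSup_of_mem ⟨n % t, Nat.mod_lt _ ht.pos⟩
        ⟨_, u1 _ (N.pow_mem hx (n / t)) u hu, ?_⟩
      rw [rho_rho, ← pow_mul, ← pow_add, Nat.mod_add_div]
    have key : ∀ g, (∀ i : ℕ, ∀ u ∈ U, ρ g (ρ (x ^ i) u) ∈ W) → ∀ v ∈ W, ρ g v ∈ W := fun g h v hv =>
      (iSup_le fun i => by rintro _ ⟨u, hu, rfl⟩; exact h i u hu : W ≤ W.comap (ρ g)) hv
    refine ((hirr W (fun g hg => key g fun i u hu => ?_) (key x fun i u hu => ?_)).resolve_left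
      fun e => u0 (eq_bot_iff.2 fun u hu => ?_)).ge
    · have := hW i _ (u1 _ (hn.conj_mem' g hg (x ^ i)) u hu)
      rwa [rho_rho, ← mul_assoc, mul_inv_cancel_left, ← rho_rho] at this
    · rw [rho_rho, ← pow_succ']; exact hW _ u hu
    · simpa [e] using hW 0 u hu

end

/-- the degree of an irreducible representation of a solvable group -/
theorem not_dvd_finrank [IsAlgClosed k] {r : ℕ} (hr : r.Prime) (n : ℕ) : ∀ (H : Type u) [Group H]
    [Finite H], Nat.card H = n → Group.IsSolvable H → (Nat.card H : k) ≠ 0 → ¬ r ∣ Nat.card H →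
    ∀ (V : Type v) [AddCommGroup V] [Module k V] [FiniteDimensional k V] [Nontrivial V]
    (ρ : Representation k H V), (∀ U : Submodule k V, (∀ g, ∀ v ∈ U, ρ g v ∈ U) → U = ⊥ ∨ U = ⊤) →
    ¬ r ∣ finrank k V := by
  induction n using Nat.strong_induction_on with
  | _ n ih =>
  intro H _ _ hn hs hk hrH V _ _ _ _ ρ hirr
  rcases subsingleton_or_nontrivial H with hH | hH
  · obtain ⟨v, hv⟩ := exists_ne (0 : V)
    have := (hirr (k ∙ v) fun g w hw => by rwa [Subsingleton.elim g 1, map_one]).resolve_left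
      (by simpa using hv)
    rw [← finrank_top, ← this, finrank_span_singleton hv]
    exact hr.not_dvd_one
  obtain ⟨N, hN, ht⟩ := Core.exists_normal_prime_index H
  have hNt : N ≠ ⊤ := fun e => ht.ne_one (by rw [e, index_top])
  obtain ⟨x, hx⟩ : ∃ x, x ∉ N := by simpa [eq_top_iff'] using hNt
  have hc := N.card_mul_index
  have hlt : Nat.card N < n := by
    rw [← hn, ← hc]; exact lt_mul_of_one_lt_right Nat.card_pos ht.one_lt
  have hk1 : (Nat.card N : k) ≠ 0 := fun e => hk (by rw [← hc, Nat.cast_mul, e, zero_mul])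
  have hr1 : ¬ r ∣ Nat.card N := fun e => hrH (e.trans (card_subgroup_dvd_card N))
  rcases dich ρ N hk1 ht (fun e => hk (by rw [← hc, Nat.cast_mul, e, mul_zero])) (N.pow_index_mem x)
    (fun U h1 h2 => hirr U fun g => by
      have h3 : N ≤ stab ρ U := h1
      have := Fact.mk ht
      have h4 : (stab ρ U).index ∣ N.index := index_dvd_of_le h3
      rcases (Nat.dvd_prime ht).1 h4 with e | e
      · exact (index_eq_one.1 e).ge (mem_top g)
      · exact absurd ((eq_of_le_of_card_ge h3 (by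
          have := (stab ρ U).card_mul_index
          rw [e, ← hc] at this
          exact (Nat.eq_of_mul_eq_mul_right ht.pos this).le)).ge h2) hx) with h | ⟨U, u0, u1, u2, u3, u4⟩
  · exact ih _ hlt N rfl inferInstance hk1 hr1 V (ρ.comp N.subtype) fun U hU => h U fun g hg => hU ⟨g, hg⟩
  · have : Nontrivial U := Submodule.nontrivial_iff_ne_bot.2 u0
    rw [finrank_of_free _ U u3 u4, Fintype.card_fin, hr.dvd_mul, not_or]
    refine ⟨fun e => hrH (e.trans (index_dvd_card N)), ih _ hlt N rfl inferInstance hk1 hr1 U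
      ((subRep ρ U).comp (inclusion u1)) fun W hW => ?_⟩
    rcases u2 (W.map U.subtype) (U.map_subtype_le W) (by
      rintro g hg _ ⟨w, hw, rfl⟩; exact ⟨_, hW ⟨g, hg⟩ w hw, rfl⟩) with e | e
    · exact Or.inl (Submodule.map_injective_of_injective U.injective_subtype (by
        rw [e, Submodule.map_bot]))
    · exact Or.inr (Submodule.map_injective_of_injective U.injective_subtype (by
        rw [e, Submodule.map_subtype_top]))

theorem mem_zpowers_of_prime {G : Type*} [Group G] {x h : G} (hr : (orderOf x).Prime)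
    (hh : h ∈ zpowers x) (h1 : h ≠ 1) : x ∈ zpowers h := by
  have := Fact.mk hr
  obtain ⟨n, hn⟩ := mem_zpowers_of_prime_card (G := zpowers x) (Nat.card_zpowers x)
    (g := ⟨h, hh⟩) (g' := ⟨x, mem_zpowers x⟩) fun e => h1 (congrArg Subtype.val e)
  exact ⟨n, congrArg Subtype.val hn⟩

theorem dvd_finrank {G : Type*} [Group G] [Finite G] {V : Type*} [AddCommGroup V] [Module k V]
    [FiniteDimensional k V] (ρ : Representation k G V) {E : Subgroup G} (hs : Group.IsSolvable E)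
    (hk : (Nat.card E : k) ≠ 0) {x : G} (hr : (orderOf x).Prime) (hx : x ∈ normalizer (E : Set G))
    (hE : E ⊓ centralizer {x} = ⊥) (h0 : ∀ v, (∀ f ∈ E, ρ f v = v) → v = 0) :
    orderOf x ∣ finrank k V := by
  let x' : normalizer (E : Set G) := ⟨x, hx⟩
  have ho : orderOf x' = orderOf x := (orderOf_coe x').symm
  have := Fintype.ofFinite (zpowers x')
  have e := subgroupOfEquivOfLe (le_normalizer (H := E))
  have : Group.IsSolvable (E.subgroupOf (normalizer (E : Set G))) :=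
    Group.isSolvable_of_surjective (f := e.symm.toMonoidHom) e.symm.surjective
  obtain ⟨W, -, h1, h2⟩ := Cfsg.Agent.S4396.free_solv (k := k) (H := zpowers x')
    (F := E.subgroupOf (normalizer (E : Set G))) (by rwa [Nat.card_congr e.toEquiv])
    (fun h hh h1 => eq_bot_iff.2 fun g hg => by
      obtain ⟨n, hn⟩ := mem_zpowers_of_prime (ho ▸ hr) hh h1
      have : (g : G) ∈ E ⊓ centralizer {x} := ⟨hg.1, mem_centralizer_singleton_iff.2 (congrArg Subtype.val
        (show g * x' = x' * g from hn ▸ ((show Commute g h from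
          mem_centralizer_singleton_iff.1 hg.2).zpow_right n).eq))⟩
      rw [hE] at this
      exact Subtype.ext this) _ V rfl (ρ.comp (normalizer (E : Set G)).subtype)
    fun v hv => h0 v fun f hf => hv ⟨f, le_normalizer hf⟩ hf
  rw [finrank_of_free _ W h1 h2, ← Nat.card_eq_fintype_card, Nat.card_zpowers, ho]
  exact dvd_mul_right _ _

theorem fix_transfer {G : Type*} [Group G] [Finite G] {V : Type*} [AddCommGroup V] [Module k V]
    {k' : Type*} [Field k'] {W : Type*} [AddCommGroup W] [Module k' W] [FiniteDimensional k' W]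
    {ρ : Representation k G V} {σ : Representation k' G W} (h : RankDom ρ σ) {x c : G}
    (hk : (orderOf x : k') ≠ 0) (hc : ∀ v, ρ x v = v → ρ c v = v) (w : W) (hw : σ x w = w) :
    σ c w = w := by
  have := Fintype.ofFinite (zpowers x)
  have h1 : evZ ρ ((MonoidAlgebra.of ℤ G c - 1) * ∑ y : zpowers x, MonoidAlgebra.of ℤ G y) = 0 := by
    ext v
    simp only [map_mul, map_sub, map_one, map_sum, evZ_of, End.mul_apply, LinearMap.sub_apply,
      End.one_apply, LinearMap.sum_apply, LinearMap.zero_apply]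
    rw [Finset.sum_sub_distrib, ← map_sum, hc _ (FPF.rep_sum_fixed ρ v (mem_zpowers x)), sub_self]
  have h2 := LinearMap.congr_fun (h.eq_zero h1) w
  have h3 : zpowers x ≤ FPF.kerOn σ (k' ∙ w) := zpowers_le.2 fun v hv => by
    obtain ⟨a, rfl⟩ := Submodule.mem_span_singleton.1 hv
    rw [map_smul, hw]
  simp only [map_mul, map_sub, map_one, map_sum, evZ_of, End.mul_apply, LinearMap.sub_apply,
    End.one_apply, LinearMap.sum_apply, LinearMap.zero_apply] at h2
  rw [Finset.sum_congr rfl fun (y : zpowers x) _ => by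
      rw [h3 y.2 w (Submodule.mem_span_singleton_self w)], Finset.sum_const, Finset.card_univ,
    ← Nat.card_eq_fintype_card, Nat.card_zpowers, ← Nat.cast_smul_eq_nsmul k'] at h2
  exact sub_eq_zero.1 ((smul_eq_zero.1 h2).resolve_left hk)

theorem eq_one_of_frob [IsAlgClosed k] {G : Type*} [Group G] [Finite G] {V : Type*} [AddCommGroup V]
    [Module k V] [FiniteDimensional k V] (ρ : Representation k G V) {N E : Subgroup G} [hn : N.Normal]
    (hs : Group.IsSolvable N) (hk : (Nat.card N : k) ≠ 0) {x : G} (hr : (orderOf x).Prime)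
    (hrk : (orderOf x : k) ≠ 0) (hrN : ¬ orderOf x ∣ Nat.card N) (htop : N ⊔ zpowers x = ⊤)
    (hEN : E ≤ N) (hx : x ∈ normalizer (E : Set G)) (hE : E ⊓ centralizer {x} = ⊥)
    (h0 : ∀ v, (∀ f ∈ E, ρ f v = v) → v = 0) {c : G} (hcN : c ∈ N)
    (hc : ∀ v, ρ x v = v → ρ c v = v) : ρ c = 1 := by
  by_contra hne
  obtain ⟨W, _, _, _, _, σ, hirr, h1, hd⟩ := exists_irred c _ hk _ ρ rfl (by
    rw [← map_pow, show c ^ Nat.card N = 1 from
      congrArg Subtype.val (pow_card_eq_one' (x := (⟨c, hcN⟩ : N))), map_one]) hne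
  have hEk : (Nat.card E : k) ≠ 0 := fun e => hk (by
    obtain ⟨m, hm⟩ := card_dvd_of_le hEN
    rw [hm, Nat.cast_mul, e, zero_mul])
  have hc' := fix_transfer hd hrk hc
  rcases dich σ N hk hr hrk (by rw [pow_orderOf_eq_one]; exact N.one_mem) (fun U a b => hirr U fun g =>
    (htop ▸ sup_le (show N ≤ stab σ U from a) (zpowers_le.2 b) : ⊤ ≤ stab σ U) (mem_top g)) with
    h | ⟨U, -, u1, -, u3, u4⟩
  · exact not_dvd_finrank hr _ N rfl hs hk hrN W (σ.comp N.subtype) (fun U hU => h U fun g hg => hU ⟨g, hg⟩)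
      (dvd_finrank σ (Core.isSolvable_of_le hEN) hEk hr hx hE (FPF.fix_of_rankDom hd hEk h0))
  · refine h1 (LinearMap.ext fun v => (u4.trans (iSup_le fun i => ?_) :
      ⊤ ≤ LinearMap.eqLocus (σ c) 1) trivial)
    rintro _ ⟨u, hu, rfl⟩
    have e := hc' (∑ j : Fin (orderOf x), σ (x ^ (j : ℕ)) u) (by
      rw [map_sum, Fin.sum_univ_eq_sum_range (fun j => σ (x ^ j) u),
        Fin.sum_univ_eq_sum_range (fun j => σ x (σ (x ^ j) u))]
      have := (Finset.sum_range_succ (fun j => σ (x ^ j) u) (orderOf x)).symm.trans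
        (Finset.sum_range_succ' _ _)
      simp only [pow_orderOf_eq_one, pow_zero, add_left_inj, pow_succ', ← rho_rho] at this
      exact this.symm)
    have := u3 (fun j => σ ((x ^ (j : ℕ))⁻¹ * c * x ^ (j : ℕ)) u - u)
      (fun j => U.sub_mem (u1 _ (hn.conj_mem' c hcN _) u hu) hu) (by
        simp only [map_sub, rho_rho, ← mul_assoc, mul_inv_cancel, one_mul]
        rw [Finset.sum_sub_distrib, sub_eq_zero, ← e, map_sum]
        simp only [rho_rho]) i
    change σ c (σ _ u) = σ _ u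
    conv_rhs => rw [← sub_eq_zero.1 this]
    simp only [rho_rho, ← mul_assoc, mul_inv_cancel, one_mul]

theorem fix_of_frob [IsAlgClosed k] {G : Type*} [Group G] [Finite G] {V : Type*} [AddCommGroup V]
    [Module k V] [FiniteDimensional k V] (ρ : Representation k G V) {N E : Subgroup G}
    (hs : Group.IsSolvable N) (hk : (Nat.card N : k) ≠ 0) {x : G} (hr : (orderOf x).Prime)
    (hrk : (orderOf x : k) ≠ 0) (hrN : ¬ orderOf x ∣ Nat.card N) (hxN : x ∈ normalizer (N : Set G))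
    (hEN : E ≤ N) (hx : x ∈ normalizer (E : Set G)) (hE : E ⊓ centralizer {x} = ⊥) {W : Submodule k V}
    (hNW : N ≤ stab ρ W) (hxW : x ∈ stab ρ W) (h0 : ∀ v ∈ W, (∀ f ∈ E, ρ f v = v) → v = 0) {c : G}
    (hcN : c ∈ N) (hc : ∀ v, ρ x v = v → ρ c v = v) {v : V} (hv : v ∈ W) : ρ c v = v := by
  let Y := N ⊔ zpowers x
  have hY : Y ≤ stab ρ W := sup_le hNW (zpowers_le.2 hxW)
  have hNY : N ≤ Y := le_sup_left
  let x' : Y := ⟨x, mem_sup_right (mem_zpowers x)⟩
  have ho : orderOf x' = orderOf x := (orderOf_coe x').symm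
  have : (N.subgroupOf Y).Normal :=
    (normal_subgroupOf_iff_le_normalizer hNY).2 (sup_le le_normalizer (zpowers_le.2 hxN))
  have e := subgroupOfEquivOfLe hNY
  have := eq_one_of_frob ((subRep ρ W).comp (inclusion hY)) (N := N.subgroupOf Y) (E := E.subgroupOf Y)
    (Group.isSolvable_of_surjective (f := e.symm.toMonoidHom) e.symm.surjective)
    (by rwa [Nat.card_congr e.toEquiv]) (x := x') (ho ▸ hr) (ho ▸ hrk)
    (by rwa [Nat.card_congr e.toEquiv, ho]) (map_injective Y.subtype_injective (by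
      rw [Subgroup.map_sup, subgroupOf_map_subtype, inf_eq_left.2 hNY, MonoidHom.map_zpowers,
        ← MonoidHom.range_eq_map, range_subtype]; rfl)) (comap_mono hEN)
    (le_normalizer_comap _ hx) (eq_bot_iff.2 fun g hg => Subtype.ext (hE.le ⟨hg.1,
      mem_centralizer_singleton_iff.2 (congrArg Subtype.val (mem_centralizer_singleton_iff.1 hg.2))⟩))
    (fun w hw => Subtype.ext (h0 w w.2 fun f hf => congrArg Subtype.val (hw ⟨f, hNY (hEN hf)⟩ hf)))
    (c := ⟨c, hNY hcN⟩) hcN fun w hw => Subtype.ext (hc w (congrArg Subtype.val hw))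
  exact congrArg Subtype.val (LinearMap.congr_fun this ⟨v, hv⟩)

end CfsgLib.FpfS
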