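import Cfsg.Agent.Lib.FpfS.KL2
import Cfsg.Agent.Lib.FPD.Box
import Cfsg.Agent.Lib.BG.S1_2
import Cfsg.Agent.Lib.HH.Ambient

/-!
Fixed points of `R` of prime order on `X`, when `R` acts on an extraspecial `F = [F, R]` with
`C_X(F) = 1`.
-/

set_option autoImplicit false

namespace CfsgLib.FpfS

open Subgroup CfsgLib.Coprime CfsgLib.KMS CfsgLib.FPF Cfsg

universe u

variable {Γ : Type u} [Group Γ] [Finite Γ]

theorem ext_setup (box : FPD.Box.{u}) {R F X : Subgroup Γ} {r s : ℕ} (hr : r.Prime) (hs : s.Prime)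
    (hR : Nat.card R = r) (hF : IsExtraspecial s F) (hRF : R ≤ normalizer (F : Set Γ))
    (hcomm : ⁅F, R⁆ = F) (hRX : R ≤ normalizer (X : Set Γ)) (hFX : F ≤ normalizer (X : Set Γ))
    (hcop : ¬ r ∣ Nat.card X) (hCF : X ⊓ centralizer (F : Set Γ) = ⊥) :
    ∃ (A : Type u) (_ : Group A) (φ : A →* MulAut X) (H : Subgroup A)
      (P : ∀ (G : Type u) [Group G], (A →* MulAut G) → Prop), Cls H P ∧
      ((¬ ∃ k, r = 2 ^ k + 1) → Triv H P) ∧ Group.IsSolvable X ∧ P X φ ∧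
      fix φ H = (X ⊓ centralizer (R : Set Γ)).subgroupOf X := by
  have := Fact.mk hr
  have := Fact.mk hs
  obtain ⟨x, rfl, hx⟩ := HH.exists_zpowers_eq_of_prime_card hr hR
  obtain ⟨h1, h2, h3⟩ := HH.extraspecial_facts hF
  have hF1 : F ≠ ⊥ := fun e => hs.ne_one (by rw [← h2, e, bot_inf_eq, card_bot])
  obtain ⟨n, hn⟩ := h1.exists_card_eq
  have hrF : ¬ r ∣ Nat.card F := fun h => by
    obtain rfl : r = s := (Nat.prime_dvd_prime_iff_eq hr hs).1 (hr.dvd_of_dvd_pow (hn ▸ h))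
    exact (commutator_lt_of_isPGroup h1 (IsPGroup.of_card (n := 1) (by rw [hR, pow_one])) hRF hF1).ne hcomm
  have hFR : (Nat.card (zpowers x)).Coprime (Nat.card F) := hR ▸ hr.coprime_iff_not_dvd.2 hrF
  have h4 := BG.coprime_cent_commg_sub_der1 hRF hFR.symm
  rw [hcomm] at h4
  let A := zpowers x ⊔ F
  have hFA : F ≤ A := le_sup_right
  have hRA : zpowers x ≤ A := le_sup_left
  let y : A := ⟨x, hRA (mem_zpowers x)⟩
  have hy : orderOf y = r := (orderOf_coe y).symm.trans hx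
  have hz : zpowers y = (zpowers x).subgroupOf A := map_injective A.subtype_injective (by
    rw [MonoidHom.map_zpowers, subgroupOf_map_subtype, inf_eq_left.2 hRA]; rfl)
  have : (F.subgroupOf A).Normal := (normal_subgroupOf_iff_le_normalizer hFA).2 (sup_le hRF le_normalizer)
  have e := subgroupOfEquivOfLe hFA
  have hc : Nat.card (F.subgroupOf A) = Nat.card F := Nat.card_congr e.toEquiv
  have hnil : Group.IsNilpotent (F.subgroupOf A) := (h1.of_equiv e.symm).isNilpotent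
  let φ : A →* MulAut X := X.normalizerMonoidHom.comp (inclusion (sup_le hRX hFX))
  have hφ : ∀ B ≤ A, fix φ (B.subgroupOf A) = (X ⊓ centralizer (B : Set Γ)).subgroupOf X := fun B hB => by
    ext g
    rw [mem_fix, mem_subgroupOf, mem_inf, and_iff_right g.2]
    exact ⟨fun h b hb => mul_inv_eq_iff_eq_mul.1 (congrArg Subtype.val (h ⟨b, hB hb⟩ hb)),
      fun h a ha => Subtype.ext (mul_inv_eq_iff_eq_mul.2 (h a ha))⟩
  have hfix : fix φ (F.subgroupOf A) = ⊥ := by rw [hφ F hFA, hCF, bot_subgroupOf]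
  have hmap : (F.subgroupOf A).map A.subtype = F := by rw [subgroupOf_map_subtype, inf_eq_left.2 hFA]
  refine ⟨A, inferInstance, φ, zpowers y, _, cls_cop hnil (hy ▸ hr) (by rwa [hy, hc])
    fun F₁ hF₁ hne => ?_, fun hnF => triv_cop (by rwa [Nat.card_zpowers, hy])
      (by rwa [hc, Nat.card_zpowers, hy, ← hR]) (by rwa [Nat.card_zpowers, hy])
      (map_injective A.subtype_injective (by
        rw [map_commutator, hmap, MonoidHom.map_zpowers]; exact hcomm)),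
    box.solN φ hnil hfix, ⟨hfix, Nat.Coprime.coprime_dvd_left (Core.card_sup_dvd_of_le_normalizer hRF)
      (Nat.Coprime.mul_left (hR ▸ hr.coprime_iff_not_dvd.2 hcop) (hn ▸ Nat.Coprime.pow_left n
        (hs.coprime_iff_not_dvd.2 (not_dvd_card_of_fpf hs h1 hFX hCF))))⟩, by rw [hz, hφ _ hRA]⟩
  have h5 : ∀ g ∈ F.subgroupOf A ⊓ centralizer {y}, (g : Γ) ∈ ⁅F, F⁆ := fun g hg =>
    h4 ⟨hg.1, fun a ⟨k, hk⟩ => hk ▸ ((show Commute (g : Γ) x from congrArg Subtype.val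
      (mem_centralizer_singleton_iff.1 hg.2)).zpow_right k).symm.eq⟩
  obtain ⟨⟨g, hg⟩, g1⟩ := ne_bot_iff_exists_ne_one.1 hne
  have h6 : ⁅F, F⁆ ≤ F₁.map A.subtype := by
    have h7 : F₁.map A.subtype ⊓ ⁅F, F⁆ ≠ ⊥ := fun e => g1 (Subtype.ext (Subtype.ext
      (e.le ⟨⟨g, hg.1, rfl⟩, h5 g ⟨hF₁ hg.1, hg.2⟩⟩)))
    refine inf_eq_right.1 (eq_of_le_of_card_ge inf_le_right ?_)
    have h8 := card_dvd_of_le (inf_le_right : F₁.map A.subtype ⊓ ⁅F, F⁆ ≤ _)
    rw [show Nat.card (⁅F, F⁆ : Subgroup Γ) = s by rw [h3, h2]] at h8 ⊢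
    exact (((Nat.dvd_prime hs).1 h8).resolve_left fun e => h7 (card_eq_one.1 e)).ge
  refine ⟨fun a ha => (mem_map_iff_mem A.subtype_injective).1 (h6 (h5 a ha)),
    le_normalizer_iff_commutator_le_right.2 ?_⟩
  refine (commutator_mono le_rfl hF₁).trans ((map_le_map_iff_of_injective A.subtype_injective).1 ?_)
  rwa [map_commutator, hmap]

theorem s4360 (box : FPD.Box.{u}) {R F X : Subgroup Γ} {r s : ℕ} (hr : r.Prime) (hs : s.Prime)
    (hR : Nat.card R = r) (hF : IsExtraspecial s F) (hRF : R ≤ normalizer (F : Set Γ))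
    (hcomm : ⁅F, R⁆ = F) (hRX : R ≤ normalizer (X : Set Γ)) (hFX : F ≤ normalizer (X : Set Γ))
    (hcop : ¬ r ∣ Nat.card X) (hCF : X ⊓ centralizer (F : Set Γ) = ⊥) :
    (fittingSubgroup ↥(X ⊓ centralizer (R : Set Γ))).map (X ⊓ centralizer (R : Set Γ)).subtype ≤
      (fittingSubgroup X).map X.subtype := by
  obtain ⟨A, _, φ, H, P, h1, -, h3, h4, h5⟩ := ext_setup box hr hs hR hF hRF hcomm hRX hFX hcop hCF
  have h := h1.fitting_eq h3 h4
  rw [h5] at h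
  rw [← Core.map_equiv_fittingSubgroup (subgroupOfEquivOfLe inf_le_left), h]
  rintro _ ⟨_, ⟨g, hg, rfl⟩, rfl⟩
  exact ⟨g, hg, rfl⟩

theorem s4361 (box : FPD.Box.{u}) {R F X : Subgroup Γ} {r s : ℕ} (hr : r.Prime)
    (hnF : ¬ ∃ k, r = 2 ^ k + 1) (hs : s.Prime)
    (hR : Nat.card R = r) (hF : IsExtraspecial s F) (hRF : R ≤ normalizer (F : Set Γ))
    (hcomm : ⁅F, R⁆ = F) (hRX : R ≤ normalizer (X : Set Γ)) (hFX : F ≤ normalizer (X : Set Γ))
    (hcop : ¬ r ∣ Nat.card X) (hCF : X ⊓ centralizer (F : Set Γ) = ⊥) (n : ℕ) :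
    fitSer n (⊤ : Subgroup X) = ⊥ ↔ fitSer n (⊤ : Subgroup ↥(X ⊓ centralizer (R : Set Γ))) = ⊥ := by
  obtain ⟨A, _, φ, H, P, h1, h2, h3, h4, h5⟩ := ext_setup box hr hs hR hF hRF hcomm hRX hFX hcop hCF
  rw [h1.fitSer_iff (h2 hnF) h3 h4, h5, fitSer_top_eq_bot_iff, fitSer_top_eq_bot_iff,
    ← fitSer_eq_bot_of_map_of_injective X.subtype_injective, subgroupOf_map_subtype,
    inf_eq_left.2 inf_le_left]

end CfsgLib.FpfS
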