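import Cfsg.Agent.Lib.KMS.Main

/-!
Khukhro's key lemma for a non-abelian `q`-group `Q` acting on an abelian `q'`-group `V`: an element
of `Q` that fixes `C_V(H)` fixes `V`.
-/

set_option autoImplicit false

namespace CfsgLib.FpfS

open Subgroup CfsgLib.Coprime CfsgLib.Solv CfsgLib.KMS Cfsg
open scoped Pointwise IsMulCommutative

universe u v w

variable {A : Type v} [Group A] {V : Type u} {Q : Type w} [CommGroup V] [Group Q]
  {ψ : A →* MulAut V} {ζ : A →* MulAut Q} {ρ : Q →* MulAut V}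

/-- minimal invariant subgroups -/
structure MinInv (ρ : Q →* MulAut V) (U : Subgroup V) : Prop where
  ne : U ≠ ⊥
  inv : AutInv ρ U
  min : ∀ W ≤ U, AutInv ρ W → W = ⊥ ∨ W = U

/-- the kernel of the action on `U` -/
def kerOn (ρ : Q →* MulAut V) (U : Subgroup V) : Subgroup Q where
  carrier := {x | ∀ u ∈ U, ρ x u = u}
  one_mem' u _ := by simp
  mul_mem' {x y} hx hy u hu := by rw [map_mul, MulAut.mul_apply, hy u hu, hx u hu]
  inv_mem' {x} hx u hu := by
    rw [map_inv, MulAut.inv_apply, MulEquiv.symm_apply_eq, hx u hu]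

theorem mem_kerOn {U : Subgroup V} {x : Q} : x ∈ kerOn ρ U ↔ ∀ u ∈ U, ρ x u = u := Iff.rfl

theorem kerOn_normal {U : Subgroup V} (h : AutInv ρ U) : (kerOn ρ U).Normal :=
  ⟨fun x hx g u hu => by
    rw [map_mul, map_mul, MulAut.mul_apply, MulAut.mul_apply, hx _ (h _ u hu), ← MulAut.mul_apply,
      ← map_mul, mul_inv_cancel, map_one, MulAut.one_apply]⟩

/-- the trace of `N` -/
def tr (ρ : Q →* MulAut V) (N : Subgroup Q) [Fintype N] : V →* V where
  toFun v := ∏ b : N, ρ b v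
  map_one' := by simp
  map_mul' v w := by simp [Finset.prod_mul_distrib]

theorem tr_apply (N : Subgroup Q) [Fintype N] (v : V) : tr ρ N v = ∏ b : N, ρ b v := rfl

theorem tr_comm (N : Subgroup Q) [hN : N.Normal] [Fintype N] (z : Q) (v : V) :
    ρ z (tr ρ N v) = tr ρ N (ρ z v) := by
  rw [tr_apply, tr_apply, map_prod]
  refine Fintype.prod_equiv (MulAut.conjNormal z : MulAut N).toEquiv _ _ fun b => ?_
  simp

theorem tr_of_fix {N : Subgroup Q} [Fintype N] {v : V} (h : ∀ b ∈ N, ρ b v = v) :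
    tr ρ N v = v ^ Nat.card N := by
  rw [tr_apply, Finset.prod_congr rfl fun (b : N) _ => h b b.2]
  simp

theorem MinInv.fix_inf {U : Subgroup V} (h : MinInv ρ U) {N : Subgroup Q} [N.Normal]
    (hN : ¬ N ≤ kerOn ρ U) : U ⊓ fix ρ N = ⊥ :=
  (h.min _ inf_le_left (h.inv.inf (autInv_fix ρ N))).resolve_right fun e =>
    hN fun x hx u hu => mem_fix.1 (e.ge hu).2 x hx

theorem MinInv.tr_eq_one {U : Subgroup V} (h : MinInv ρ U) {N : Subgroup Q} [N.Normal] [Fintype N]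
    (hN : ¬ N ≤ kerOn ρ U) {u : V} (hu : u ∈ U) : tr ρ N u = 1 := by
  rw [← mem_bot, ← h.fix_inf hN]
  exact ⟨prod_mem fun b _ => h.inv _ _ hu, prod_mem_fix ρ N u⟩

theorem MinInv.smul (hc : ∀ a z v, ψ a (ρ z v) = ρ (ζ a z) (ψ a v)) {U : Subgroup V}
    (h : MinInv ρ U) (a : A) : MinInv ρ (ψ a • U) := by
  have key : ∀ (b : A) (W : Subgroup V), AutInv ρ W → AutInv ρ (ψ b • W) := by
    rintro b W hW z _ ⟨w, hw, rfl⟩
    refine ⟨ρ ((ζ b)⁻¹ z) w, hW _ _ hw, ?_⟩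
    change ψ b _ = ρ z (ψ b w)
    rw [hc]; simp
  refine ⟨fun e => h.ne ?_, key a U h.inv, fun W hW hi => ?_⟩
  · rw [← inv_smul_smul (ψ a) U, e, smul_bot]
  · have h1 : ψ a⁻¹ • W ≤ U := by
      rw [map_inv, ← subset_pointwise_smul_iff]; exact hW
    rcases h.min _ h1 (key _ W hi) with e | e
    · left; rw [← smul_inv_smul (ψ a) W, ← map_inv, e, smul_bot]
    · right; rw [← e, map_inv, smul_inv_smul]

theorem kerOn_smul (hc : ∀ a z v, ψ a (ρ z v) = ρ (ζ a z) (ψ a v)) (U : Subgroup V) (a : A) :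
    kerOn ρ (ψ a • U) = ζ a • kerOn ρ U := by
  ext x
  rw [mem_pointwise_smul_iff_inv_smul_mem, mem_kerOn, mem_kerOn]
  constructor
  · intro h u hu
    apply (ψ a).injective
    rw [hc]
    simpa using h _ (smul_mem_pointwise_smul u (ψ a) U hu)
  · rintro h _ ⟨u, hu, rfl⟩
    have := congrArg (ψ a) (h u hu)
    rw [hc] at this
    simpa using this

variable [Finite V] [Finite Q]

theorem exists_minInv {W : Subgroup V} (h1 : W ≠ ⊥) (h2 : AutInv ρ W) : ∃ U ≤ W, MinInv ρ U := by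
  obtain ⟨N, -, n1, n2, n3, n4⟩ := exists_minimal_autInv_normal h2 h1
  exact ⟨N, n2, n1, n3, fun M hM hi => n4 M inferInstance hi hM⟩

theorem pow_card_inj (hcop : (Nat.card Q).Coprime (Nat.card V)) (N : Subgroup Q) {v w : V}
    (h : v ^ Nat.card N = w ^ Nat.card N) : v = w :=
  (powCoprime (hcop.coprime_dvd_left (card_subgroup_dvd_card N)).symm).injective h

theorem exists_minInv_of_ne (hcop : (Nat.card Q).Coprime (Nat.card V)) {c : Q} {v : V}
    (h : ρ c v ≠ v) : ∃ U, MinInv ρ U ∧ c ∉ kerOn ρ U := by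
  have := Fintype.ofFinite (normalClosure ({c} : Set Q))
  set D := normalClosure ({c} : Set Q)
  have hc : c ∈ D := subset_normalClosure rfl
  have h1 : (tr ρ D).ker ≠ ⊥ := by
    intro e
    have : ρ c v * v⁻¹ ∈ (tr ρ D).ker := by
      rw [MonoidHom.mem_ker, map_mul, map_inv, ← tr_comm,
        mem_fix.1 (prod_mem_fix ρ D v) c hc |> (show ρ c (tr ρ D v) = tr ρ D v from ·), mul_inv_cancel]
    rw [e, mem_bot, mul_inv_eq_one] at this
    exact h this
  obtain ⟨U, hU, hm⟩ := exists_minInv h1 (ρ := ρ) fun z x hx => by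
    rw [MonoidHom.mem_ker, ← tr_comm, MonoidHom.mem_ker.1 hx, map_one]
  refine ⟨U, hm, fun hk => hm.ne (eq_bot_iff.2 fun u hu => ?_)⟩
  have := kerOn_normal hm.inv
  have hD : D ≤ kerOn ρ U := normalClosure_le_normal (by simpa using hk)
  have h2 := MonoidHom.mem_ker.1 (hU hu)
  rw [tr_of_fix fun b hb => hD hb u hu] at h2
  exact pow_card_inj hcop D (by rw [h2, one_pow])

/-- a kernel in a regular `H`-orbit -/
theorem mem_kerOn_of_regular [Finite A] (hc : ∀ a z v, ψ a (ρ z v) = ρ (ζ a z) (ψ a v))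
    {H : Subgroup A} (hcop : (Nat.card Q).Coprime (Nat.card V)) {c : Q}
    (hcv : ∀ v ∈ fix ψ H, ρ c v = v) {U : Subgroup V} (hU : MinInv ρ U)
    (hreg : ∀ h ∈ H, h ≠ 1 → ζ h • kerOn ρ U ≠ kerOn ρ U) : c ∈ kerOn ρ U := by
  classical
  intro w hw
  have := Fintype.ofFinite H
  have := Fintype.ofFinite (kerOn ρ U)
  have := kerOn_normal hU.inv
  have h1 : ∀ h : H, h ≠ 1 → tr ρ (kerOn ρ U) (ψ h w) = 1 := by
    intro h hh
    refine (hU.smul hc h).tr_eq_one ?_ (smul_mem_pointwise_smul w (ψ h) U hw)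
    rw [kerOn_smul hc]
    intro hle
    refine hreg h h.2 (fun e => hh (Subtype.ext e)) (eq_of_le_of_card_ge hle ?_).symm
    exact (Nat.card_congr (equivSMul (ζ h) (kerOn ρ U)).toEquiv).ge
  have h2 : tr ρ (kerOn ρ U) (∏ h : H, ψ h w) = w ^ Nat.card (kerOn ρ U) := by
    rw [map_prod, Finset.prod_eq_single (1 : H) (fun h _ hh => h1 h hh) (by simp)]
    simp only [OneMemClass.coe_one, map_one, MulAut.one_apply]
    exact tr_of_fix fun b hb => hb w hw
  have h3 := congrArg (tr ρ (kerOn ρ U)) (hcv _ (prod_mem_fix ψ H w))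
  rw [← tr_comm, h2, map_pow] at h3
  exact pow_card_inj hcop _ h3

/-- the elements that are central of exponent `q` modulo `K` -/
def ZK (q : ℕ) (K : Subgroup Q) [K.Normal] : Subgroup Q where
  carrier := {x | (x : Q ⧸ K) ∈ center (Q ⧸ K) ∧ (x : Q ⧸ K) ^ q = 1}
  one_mem' := ⟨one_mem _, one_pow _⟩
  mul_mem' {x y} hx hy := ⟨mul_mem hx.1 hy.1, by
    rw [QuotientGroup.mk_mul, Commute.mul_pow (mem_center_iff.1 hy.1 _), hx.2, hy.2, one_mul]⟩
  inv_mem' {x} hx := ⟨inv_mem hx.1, by rw [QuotientGroup.mk_inv, inv_pow, hx.2, inv_one]⟩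

omit [Finite Q] in
theorem mem_ZK {q : ℕ} {K : Subgroup Q} [hK : K.Normal] {x : Q} :
    x ∈ ZK q K ↔ (∀ y, (y * x)⁻¹ * (x * y) ∈ K) ∧ x ^ q ∈ K := by
  refine and_congr ?_ (by rw [← QuotientGroup.mk_pow, QuotientGroup.eq_one_iff])
  rw [mem_center_iff]
  refine ⟨fun h y => QuotientGroup.eq.1 (h y), fun h y => ?_⟩
  obtain ⟨y, rfl⟩ := QuotientGroup.mk_surjective y
  exact QuotientGroup.eq.2 (h y)

omit [Finite Q] in
theorem le_ZK {q : ℕ} {K : Subgroup Q} [hK : K.Normal] : K ≤ ZK q K := fun x hx =>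
  ⟨by rw [(QuotientGroup.eq_one_iff x).2 hx]; exact one_mem _,
    by rw [(QuotientGroup.eq_one_iff x).2 hx, one_pow]⟩

omit [Finite Q] in
theorem smul_mem_ZK {q : ℕ} {K : Subgroup Q} [hK : K.Normal] {α : MulAut Q} (h : α • K = K) {x : Q}
    (hx : x ∈ ZK q K) : α x ∈ ZK q K := by
  have hs : ∀ b ∈ K, α b ∈ K := fun b hb => h ▸ smul_mem_pointwise_smul b α K hb
  rw [mem_ZK] at hx ⊢
  refine ⟨fun y => ?_, by rw [← map_pow]; exact hs _ hx.2⟩
  simpa using hs _ (hx.1 (α.symm y))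

theorem exists_mem_ZK {q : ℕ} (hq : q.Prime) (hQ : IsPGroup q Q) {K L : Subgroup Q} [K.Normal]
    [L.Normal] (h : ¬ L ≤ K) : ∃ z ∈ L ⊔ K, z ∉ K ∧ z ∈ ZK q K := by
  have := Fact.mk hq
  have hQ' : IsPGroup q (Q ⧸ K) := hQ.to_quotient K
  have := hQ'.isNilpotent
  have : (L.map (QuotientGroup.mk' K)).Normal := Normal.map inferInstance _ (QuotientGroup.mk'_surjective K)
  have h1 : L.map (QuotientGroup.mk' K) ⊓ center _ ≠ ⊥ := Core.inf_center_ne_bot_of_isNilpotent (by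
    rwa [Ne, Subgroup.map_eq_bot_iff, QuotientGroup.ker_mk'])
  obtain ⟨k, hk⟩ := (hQ'.to_subgroup (L.map (QuotientGroup.mk' K) ⊓ center _)).exists_card_eq
  obtain ⟨y, hy⟩ := exists_prime_orderOf_dvd_card' (G := ↥(L.map (QuotientGroup.mk' K) ⊓ center _)) q (by
    rw [hk]; refine dvd_pow_self q ?_
    rintro rfl
    exact h1 (card_eq_one.1 (by simpa using hk)))
  obtain ⟨z, hz, e⟩ := y.2.1
  have e' : (z : Q ⧸ K) = y := e
  refine ⟨z, mem_sup_left hz, fun hzK => hq.ne_one ?_, e' ▸ y.2.2, ?_⟩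
  · rw [← hy, orderOf_eq_one_iff]
    exact Subtype.ext (e'.symm.trans ((QuotientGroup.eq_one_iff z).2 hzK))
  · rw [e', ← coe_pow, ← hy, pow_orderOf_eq_one, coe_one]

/-- `ZK / K` is cyclic -/
theorem MinInv.exists_pow {q : ℕ} (hq : q.Prime) (hcop : (Nat.card Q).Coprime (Nat.card V))
    {U : Subgroup V} (hU : MinInv ρ U) [(kerOn ρ U).Normal] {z : Q} (hz : z ∈ ZK q (kerOn ρ U))
    (hzK : z ∉ kerOn ρ U) {x : Q} (hx : x ∈ ZK q (kerOn ρ U)) :
    ∃ n : ℕ, (x : Q ⧸ kerOn ρ U) = (z : Q ⧸ kerOn ρ U) ^ n := by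
  set K := kerOn ρ U
  let Z : Subgroup (Q ⧸ K) := (ZK q K).map (QuotientGroup.mk' K)
  have hZc : Z ≤ center _ := by rintro _ ⟨y, hy, rfl⟩; exact hy.1
  have : IsMulCommutative Z := ⟨⟨fun a b => Subtype.ext (mem_center_iff.1 (hZc b.2) a)⟩⟩
  let σ : Q ⧸ K →* MulAut U := QuotientGroup.lift K (subAut ρ U hU.inv) fun y hy =>
    MulEquiv.ext fun u => Subtype.ext (hy u u.2)
  have hσ : ∀ (y : Q) (u : U), (σ y u : V) = ρ y u := fun _ _ => rfl
  let z' : Z := ⟨z, z, hz, rfl⟩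
  have hz1 : z' ≠ 1 := fun e => hzK ((QuotientGroup.eq_one_iff z).1 (congrArg Subtype.val e))
  have : Nontrivial Z := ⟨z', 1, hz1⟩
  have hexp : ∀ y : Z, y ^ q = 1 := by
    rintro ⟨_, y, hy, rfl⟩
    exact Subtype.ext hy.2
  have hcard : Nat.card Z = q := by
    by_contra hne
    have : (⊥ : Subgroup U) = ⊤ := by
      refine eq_top_of_hyperplanes (σ.comp Z.subtype) hq hexp ?_ fun B hB u hu => ?_
      · exact (hcop.coprime_dvd_left ((card_subgroup_dvd_card Z).trans (card_quotient_dvd_card K))).coprime_dvd_right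
          (card_subgroup_dvd_card U)
      · let N : Subgroup Q := (B.map Z.subtype).comap (QuotientGroup.mk' K)
        have : (B.map Z.subtype).Normal := ⟨fun b hb g => by
          rw [mem_center_iff.1 (hZc (map_subtype_le B hb)) g, mul_inv_cancel_right]; exact hb⟩
        have hN : ¬ N ≤ K := fun hle => hne (by
          rw [← hB, show B = ⊥ from eq_bot_iff.2 fun b hb => ?_, index_bot]
          obtain ⟨_, y, hy, rfl⟩ := b
          exact Subtype.ext ((QuotientGroup.eq_one_iff y).2 (hle ⟨_, hb, rfl⟩)))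
        have : (u : V) ∈ U ⊓ fix ρ N := ⟨u.2, mem_fix.2 fun y ⟨b, hb, e⟩ => by
          have := congrArg Subtype.val (mem_fix.1 hu b hb)
          rw [← hσ, ← this]
          exact congrArg (fun t => (σ t u : V)) e.symm⟩
        rw [hU.fix_inf hN] at this
        exact Subtype.ext this
    exact hU.ne ((Subgroup.eq_bot_iff_forall U).2 fun u hu =>
      congrArg Subtype.val (mem_bot.1 (this.ge (mem_top (⟨u, hu⟩ : U)))))
  have := Fact.mk hq
  have h1 : (⟨x, x, hx, rfl⟩ : Z) ∈ zpowers z' := by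
    rw [zpowers_eq_top_of_prime_card hcard hz1]; exact mem_top _
  obtain ⟨n, hn⟩ := (Submonoid.mem_powers_iff _ _).1 (mem_powers_iff_mem_zpowers.2 h1)
  exact ⟨n, (congrArg Subtype.val hn).symm⟩

omit [Finite Q] in
theorem mk_smul_congr {K : Subgroup Q} [K.Normal] {α : MulAut Q} (h : α • K = K) {x y : Q}
    (e : (x : Q ⧸ K) = y) : (α x : Q ⧸ K) = α y := by
  rw [QuotientGroup.eq] at e ⊢
  rw [← map_inv, ← map_mul]
  exact h ▸ smul_mem_pointwise_smul _ α K e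

/-- stabilising automorphisms commute on `ZK / K` -/
theorem MinInv.smul_comm {q : ℕ} (hq : q.Prime) (hcop : (Nat.card Q).Coprime (Nat.card V))
    {U : Subgroup V} (hU : MinInv ρ U) [(kerOn ρ U).Normal] {α β : MulAut Q}
    (hα : α • kerOn ρ U = kerOn ρ U) (hβ : β • kerOn ρ U = kerOn ρ U) {x : Q}
    (hx : x ∈ ZK q (kerOn ρ U)) : (α (β x) : Q ⧸ kerOn ρ U) = β (α x) := by
  by_cases hxK : x ∈ kerOn ρ U
  · have e : (x : Q ⧸ kerOn ρ U) = (1 : Q) := (QuotientGroup.eq_one_iff x).2 hxK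
    rw [mk_smul_congr hα (mk_smul_congr hβ e), mk_smul_congr hβ (mk_smul_congr hα e)]
    simp
  obtain ⟨m, hm⟩ := hU.exists_pow hq hcop hx hxK (smul_mem_ZK hα hx)
  obtain ⟨n, hn⟩ := hU.exists_pow hq hcop hx hxK (smul_mem_ZK hβ hx)
  rw [mk_smul_congr hα (hn.trans (QuotientGroup.mk_pow _ _ _).symm),
    mk_smul_congr hβ (hm.trans (QuotientGroup.mk_pow _ _ _).symm), map_pow, map_pow,
    QuotientGroup.mk_pow, QuotientGroup.mk_pow, hm, hn, ← pow_mul, ← pow_mul, mul_comm]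

/-- the norm argument -/
theorem mem_of_norm [Finite A] {E : Subgroup A} (hs : Group.IsSolvable E) {q : ℕ}
    (hEq : (Nat.card E).Coprime (Nat.card Q)) (hEq' : (Nat.card E).Coprime q) (hE : fix ζ E = ⊥)
    {K : Subgroup Q} [K.Normal] {E₀ : Subgroup A} {z : Q} (hz : z ∈ ZK q K)
    (h0 : ∀ f ∈ E, f ∈ E₀ → (ζ f z : Q ⧸ K) = z) (h1 : ∀ f ∈ E, f ∉ E₀ → ζ f z ∈ K) : z ∈ K := by
  classical
  have := Fintype.ofFinite E
  let φ : E →* MulAut Q := ζ.comp E.subtype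
  let M : Subgroup Q := ⨅ f : E, (ZK q K).comap (φ f).toMonoidHom
  have hM : ∀ x, x ∈ M ↔ ∀ f : E, ζ f x ∈ ZK q K := fun x => mem_iInf
  have hMi : AutInv φ M := fun e x hx => (hM _).2 fun f => by
    simpa [φ] using (hM _).1 hx (f * e)
  let χ : M →* center (Q ⧸ K) :=
    { toFun := fun x => ∏ f : E, ⟨(ζ f x : Q), ((hM _).1 x.2 f).1⟩
      map_one' := Finset.prod_eq_one fun f _ => Subtype.ext (by simp)
      map_mul' := fun x y => by
        rw [← Finset.prod_mul_distrib]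
        exact Finset.prod_congr rfl fun f _ => Subtype.ext (by simp) }
  have hχ : ∀ x : M, χ x = ∏ f : E, ⟨(ζ f x : Q), ((hM _).1 x.2 f).1⟩ := fun _ => rfl
  have h2 := autComm_sup_autFix hMi (hEq.coprime_dvd_right (card_subgroup_dvd_card M)) (Or.inl hs)
  rw [show autFix φ = ⊥ from hE, inf_bot_eq, sup_bot_eq] at h2
  have h3 : autComm φ M ≤ χ.ker.map M.subtype := autComm_le_iff.2 fun e g hg =>
    ⟨(⟨g, hg⟩ : M)⁻¹ * ⟨φ e g, hMi e g hg⟩, by
      rw [SetLike.mem_coe, MonoidHom.mem_ker, map_mul, map_inv, inv_mul_eq_one, hχ, hχ]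
      exact (Fintype.prod_equiv (Equiv.mulRight e) _ _ fun f => Subtype.ext (by simp [φ])).symm, rfl⟩
  have hzM : z ∈ M := (hM _).2 fun f => by
    by_cases hf : (f : A) ∈ E₀
    · exact ⟨by rw [h0 f f.2 hf]; exact hz.1, by rw [h0 f f.2 hf]; exact hz.2⟩
    · exact le_ZK (h1 f f.2 hf)
  obtain ⟨x, hx, e⟩ := h3 (h2.ge hzM)
  obtain rfl : x = ⟨z, hzM⟩ := Subtype.ext e
  have h4 : χ ⟨z, hzM⟩ = 1 := hx
  rw [hχ, Finset.prod_congr rfl
    (g := fun f : E => if f ∈ E₀.subgroupOf E then (⟨z, hz.1⟩ : center (Q ⧸ K)) else 1) ?_, Finset.prod_ite,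
    Finset.prod_const, Finset.prod_const_one, mul_one] at h4
  · have h9 : (Finset.univ.filter fun f : E => f ∈ E₀.subgroupOf E).card =
        Nat.card (E₀.subgroupOf E) := by
      rw [Nat.card_eq_fintype_card, Fintype.card_subtype]
    rw [h9] at h4
    refine mem_of_pow_mem_of_coprime
      (hEq'.coprime_dvd_left (card_subgroup_dvd_card (E₀.subgroupOf E))) ?_ (mem_ZK.1 hz).2
    rw [← QuotientGroup.eq_one_iff, QuotientGroup.mk_pow]
    exact congrArg Subtype.val h4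
  · intro f _
    split_ifs with hf
    · exact Subtype.ext (h0 f f.2 hf)
    · exact Subtype.ext ((QuotientGroup.eq_one_iff _).2 (h1 f f.2 hf))

/-- The key lemma. -/
theorem key [Finite A] (hc : ∀ a z v, ψ a (ρ z v) = ρ (ζ a z) (ψ a v)) {E H : Subgroup A}
    (hHE : H ≤ normalizer (E : Set A)) (hfpf : ∀ h ∈ H, h ≠ 1 → E ⊓ centralizer {h} = ⊥)
    (hs : Group.IsSolvable E) {q : ℕ} (hq : q.Prime) (hQ : IsPGroup q Q)
    (hEq : (Nat.card E).Coprime q) (hcop : (Nat.card Q).Coprime (Nat.card V))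
    (hE : fix ζ E = ⊥) {c : Q} (hcv : ∀ v ∈ fix ψ H, ρ c v = v) (v : V) : ρ c v = v := by
  by_contra hne
  obtain ⟨U, hU, hcK⟩ := exists_minInv_of_ne hcop hne
  have := kerOn_normal hU.inv
  set K := kerOn ρ U with hK
  let _ : MulAction A (Subgroup Q) := MulAction.compHom _ ζ
  have reg : ∀ {W : Subgroup V}, MinInv ρ W → c ∉ kerOn ρ W →
      ∃ h ∈ H, h ≠ 1 ∧ ζ h • kerOn ρ W = kerOn ρ W := fun hW hn => by
    by_contra h
    push Not at h
    exact hn (mem_kerOn_of_regular hc hcop hcv hW h)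
  obtain ⟨h₁, m1, n1, e1⟩ := reg hU hcK
  have key1 : ∀ f ∈ E, ζ f • K ≠ K → c ∈ ζ f • K := by
    intro f hf hn
    by_contra hc'
    rw [← kerOn_smul hc] at hc'
    obtain ⟨h₂, m2, n2, e2⟩ := reg (hU.smul hc f) hc'
    rw [kerOn_smul hc] at e2
    exact hn (smul_eq_of_two_fixed hHE hfpf hs hf m1 n1 m2 n2 e1 e2)
  let L : Subgroup Q := ⨅ f : {f : A // f ∈ E ∧ ζ f • K ≠ K}, ζ f • K
  have : L.Normal := normal_iInf_normal fun f => by
    rw [← kerOn_smul hc]; exact kerOn_normal (hU.smul hc f).inv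
  have hcL : c ∈ L := mem_iInf.2 fun f => key1 f f.2.1 f.2.2
  obtain ⟨z', hz', hzK', hz''⟩ := exists_mem_ZK hq hQ (K := K) (L := L) fun h => hcK (h hcL)
  obtain ⟨z, hzL, k, hk, rfl⟩ := mem_sup_of_normal_right.1 hz'
  have hz : z ∈ ZK q K := (mul_mem_cancel_right (le_ZK hk)).1 hz''
  refine hzK' (mul_mem (mem_of_norm (ζ := ζ) (E₀ := MulAction.stabilizer A K) hs ?_ hEq hE hz ?_ ?_) hk)
  · have := Fact.mk hq
    obtain ⟨n, hn⟩ := hQ.exists_card_eq
    rw [hn]; exact hEq.pow_right n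
  · intro f hf hf0
    have hs' : h₁ ∈ normalizer ((MulAction.stabilizer A K : Subgroup A) : Set A) := le_normalizer e1
    obtain ⟨y, hy, rfl⟩ := Frob.exists_commutator_eq_of_fpf (K := E ⊓ MulAction.stabilizer A K)
      (inf_normalizer_le_normalizer_inf ⟨hHE m1, hs'⟩)
      (Frob.fpf_mono inf_le_left (hfpf _ m1 n1)) ⟨hf, hf0⟩
    have i1 : ζ y⁻¹ • K = K := (MulAction.stabilizer A K).inv_mem hy.2
    have i2 : ζ h₁⁻¹ • K = K := (MulAction.stabilizer A K).inv_mem e1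
    have := hU.smul_comm hq hcop (α := ζ y) (β := ζ h₁) hy.2 e1 (smul_mem_ZK i1 (smul_mem_ZK i2 hz))
    simpa using this
  · intro f hf hf0
    have := mem_iInf.1 hzL ⟨f⁻¹, E.inv_mem hf, fun e => hf0 (by
      simpa using (MulAction.stabilizer A K).inv_mem (show f⁻¹ ∈ _ from e))⟩
    rwa [mem_pointwise_smul_iff_inv_smul_mem, ← map_inv, inv_inv] at this

end CfsgLib.FpfS
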