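import Cfsg.Agent.Lib.FpfS.Dich
import Cfsg.Agent.Lib.FpfS.Cls
import Cfsg.Agent.Lib.Fusion.CentQuad

/-!
The key lemma for an automorphism `x` of prime order of a group `F` whose subgroups meeting `C(x)`
are normal and contain `C_F(x)`.
-/

set_option autoImplicit false

namespace CfsgLib.FpfS

open Subgroup Module CfsgLib.HH CfsgLib.Coprime CfsgLib.Solv CfsgLib.KMS Cfsg SemidirectProduct
open scoped Pointwise IsMulCommutative

universe u v w

theorem comp_zero {k V B : Type*} [Field k] [AddCommGroup V] [Module k V] (π : B → End k V) {ι : Type*}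
    [Fintype ι] (f : ι → B → k) (w : ι → V) (hw : ∀ i, w i ∈ LS.wsp π (f i)) (h : ∑ i, w i = 0)
    (l : B → k) (p : ι → Prop) [DecidablePred p] (hp : ∀ i, p i ↔ f i = l) :
    ∑ i with p i, w i = 0 := by
  classical
  have := LS.wsp_sum_eq_zero π id (insert l (Finset.univ.image f)) (Set.injOn_id _)
    (fun m => ∑ i with f i = m, w i) (fun m _ => Submodule.sum_mem _ fun i hi => by
      have := hw i
      rwa [(Finset.mem_filter.1 hi).2] at this) (by
      exact (Finset.sum_fiberwise_of_maps_to (fun i _ => Finset.mem_insert_of_mem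
        (Finset.mem_image_of_mem f (Finset.mem_univ i))) w).trans h) l (Finset.mem_insert_self _ _)
  rwa [Finset.filter_congr fun i _ => hp i]

variable {A : Type v} [Group A] {Q : Type w} [Group Q] {ζ : A →* MulAut Q}

/-- conjugation on the normal factor -/
def kap (ζ : A →* MulAut Q) : Q ⋊[ζ] A →* MulAut Q :=
  lift MulAut.conj ζ fun a => by ext; simp

theorem inl_kap (y : Q ⋊[ζ] A) (n : Q) : (inl (kap ζ y n) : Q ⋊[ζ] A) = y * inl n * y⁻¹ := by
  conv_rhs => rw [← inl_left_mul_inr_right y]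
  rw [mul_inv_rev, ← map_inv, ← map_inv, mul_assoc (inl y.left), mul_assoc (inl y.left), ← mul_assoc _ (inr _),
    ← inl_aut, ← map_mul, ← map_mul]
  simp [kap, lift, mul_assoc]

section Rep
variable {k : Type*} [Field k] {V : Type*} [AddCommGroup V] [Module k V] [Fintype Q]
  {σ : Representation k (Q ⋊[ζ] A) V}

/-- class sums -/
def cs (σ : Representation k (Q ⋊[ζ] A) V) (n : Q) : End k V := ∑ g : Q, σ (inl (g * n * g⁻¹))

theorem cs_mul (y : Q ⋊[ζ] A) (n : Q) : cs σ n * σ y = σ y * cs σ (kap ζ y⁻¹ n) := by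
  rw [cs, cs, Finset.sum_mul, Finset.mul_sum]
  refine Fintype.sum_equiv (kap ζ y⁻¹).toEquiv _ _ fun g => ?_
  rw [MulEquiv.toEquiv_eq_coe, MulEquiv.coe_toEquiv, ← map_inv (kap ζ y⁻¹), ← map_mul (kap ζ y⁻¹),
    ← map_mul (kap ζ y⁻¹), inl_kap, ← map_mul σ, ← map_mul σ]
  congr 1; group

theorem cs_comm (g n : Q) : cs σ n * σ (inl g) = σ (inl g) * cs σ n := by
  rw [cs, Finset.sum_mul, Finset.mul_sum]
  refine Fintype.sum_equiv (Equiv.mulLeft g⁻¹) _ _ fun h => ?_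
  rw [← map_mul σ, ← map_mul σ, ← map_mul, ← map_mul, Equiv.coe_mulLeft]
  congr 2; group

/-- the action on weights -/
def act (y : Q ⋊[ζ] A) (l : Q → k) : Q → k := fun n => l (kap ζ y⁻¹ n)

omit [Fintype Q] in
theorem act_inv_act (y : Q ⋊[ζ] A) (l : Q → k) : act y⁻¹ (act y l) = l := by
  funext n; simp [act]

theorem mem_act {l : Q → k} {v : V} (hv : v ∈ LS.wsp (cs σ) l) (y : Q ⋊[ζ] A) :
    σ y v ∈ LS.wsp (cs σ) (act y l) := fun n => by
  rw [← End.mul_apply, cs_mul, End.mul_apply, hv, map_smul]; rfl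

theorem mem_inl {l : Q → k} {v : V} (hv : v ∈ LS.wsp (cs σ) l) (g : Q) :
    σ (inl g) v ∈ LS.wsp (cs σ) l := fun n => by
  rw [← End.mul_apply, cs_comm, End.mul_apply, hv, map_smul]

variable [FiniteDimensional k V]

theorem mem_stab_iff {l : Q → k} (hl : LS.wsp (cs σ) l ≠ ⊥) (y : Q ⋊[ζ] A) :
    y ∈ stab σ (LS.wsp (cs σ) l) ↔ act y l = l := by
  refine ⟨fun h => funext fun n => ?_, fun h v hv => h ▸ mem_act hv y⟩
  obtain ⟨v, hv, v0⟩ := Submodule.exists_mem_ne_zero_of_ne_bot hl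
  refine LS.weight_eq_of_mem (fun e => v0 ?_) (mem_act hv y) (h v hv n)
  have := congrArg (σ y⁻¹) e
  rwa [rho_rho, inv_mul_cancel, map_one, End.one_apply, map_zero] at this

omit [FiniteDimensional k V] [Fintype Q] in
theorem rho_inl (a b : Q) (v : V) : σ (inl a) (σ (inl b) v) = σ (inl (a * b)) v := by
  rw [map_mul inl, map_mul σ, End.mul_apply]

/-- the kernel on a weight space -/
def Kw (σ : Representation k (Q ⋊[ζ] A) V) (l : Q → k) : Subgroup Q :=
  (FPF.kerOn σ (LS.wsp (cs σ) l)).comap inl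

omit [FiniteDimensional k V] in
theorem mem_Kw {l : Q → k} {z : Q} : z ∈ Kw σ l ↔ ∀ v ∈ LS.wsp (cs σ) l, σ (inl z) v = v := Iff.rfl

instance Kw_normal (l : Q → k) : (Kw σ l).Normal := ⟨fun z hz g => mem_Kw.2 fun v hv => by
  rw [← rho_inl, ← rho_inl, mem_Kw.1 hz _ (mem_inl hv _), rho_inl, mul_inv_cancel, map_one, map_one,
    End.one_apply]⟩

omit [FiniteDimensional k V] in
theorem ne_bot_of_Kw {l : Q → k} {z : Q} (h : z ∉ Kw σ l) : LS.wsp (cs σ) l ≠ ⊥ := fun e =>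
  h (mem_Kw.2 fun v hv => by rw [(Submodule.mem_bot k).1 (e.le hv), map_zero])

theorem exists_not_mem_Kw [IsAlgClosed k] [Nontrivial V]
    (hirr : ∀ U : Submodule k V, (∀ g, ∀ w ∈ U, σ g w ∈ U) → U = ⊥ ∨ U = ⊤) {c : Q}
    (hne : σ (inl c) ≠ 1) : ∃ l, c ∉ Kw σ l := by
  have hsp : ⨆ l, LS.wsp (cs σ) l = ⊤ := by
    refine (hirr _ fun y v hv => (iSup_le fun l w hw => Submodule.mem_iSup_of_mem _ (mem_act hw y) :
      ⨆ l, LS.wsp (cs σ) l ≤ (⨆ l, LS.wsp (cs σ) l).comap (σ y)) hv).resolve_left fun e => ?_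
    obtain ⟨v, -, v0, hv⟩ := exists_common_eigenvector (Set.range (cs σ)) (by
      rintro _ ⟨a, rfl⟩ _ ⟨b, rfl⟩
      exact (Commute.sum_right _ (fun g : Q => σ (inl (g * b * g⁻¹))) (cs σ a)
        fun g _ => cs_comm _ a).eq) ⊤ top_ne_bot fun _ _ _ _ => trivial
    choose l hl using fun n => hv _ ⟨n, rfl⟩
    exact v0 (e.le (Submodule.mem_iSup_of_mem l hl))
  by_contra! h
  exact hne (LinearMap.ext fun v => (iSup_le fun l => mem_Kw.1 (h l) :
    ⨆ l, LS.wsp (cs σ) l ≤ LinearMap.eqLocus (σ (inl c)) 1) (hsp.ge trivial))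

theorem mem_stab_of_Kw [Finite A] {x : A} (hr : (orderOf x).Prime) {c : Q}
    (hc : ∀ v, σ (inr x) v = v → σ (inl c) v = v) {l : Q → k} (hl : c ∉ Kw σ l) :
    inr x ∈ stab σ (LS.wsp (cs σ) l) := by
  classical
  by_contra hn
  refine hl (mem_Kw.2 fun v hv => ?_)
  have := Fintype.ofFinite (zpowers x)
  have e := hc _ (FPF.rep_sum_fixed (σ.comp inr) v (mem_zpowers x))
  have := comp_zero (cs σ) (fun h : zpowers x => act (ζ := ζ) (inr h) l)
    (fun h => σ (inl c) (σ (inr h) v) - σ (inr h) v)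
    (fun h => Submodule.sub_mem _ (mem_inl (mem_act hv _) _) (mem_act hv _))
    (by rw [Finset.sum_sub_distrib, ← map_sum]; exact sub_eq_zero.2 e) l (· = 1) fun h =>
      ⟨by rintro rfl; funext n; simp [act], fun e => by
        by_contra h1
        exact hn ((zpowers_le.2 ((mem_stab_iff (ne_bot_of_Kw hl) _).2 e) : zpowers (h : A) ≤
          (stab σ (LS.wsp (cs σ) l)).comap inr)
          (mem_zpowers_of_prime hr h.2 fun e => h1 (Subtype.ext e)))⟩
  rw [Finset.filter_eq', if_pos (Finset.mem_univ _), Finset.sum_singleton] at this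
  simpa [sub_eq_zero] using this

theorem eq_zero_of_fix_stab [Finite A] {F : Subgroup A} (hk : (Nat.card F : k) ≠ 0)
    (h0 : ∀ v, (∀ f ∈ F, σ (inr f) v = v) → v = 0) {l : Q → k} {w : V} (hw : w ∈ LS.wsp (cs σ) l)
    (hf : ∀ f ∈ F ⊓ (stab σ (LS.wsp (cs σ) l)).comap inr, σ (inr f) w = w) : w = 0 := by
  classical
  by_contra w0
  have := Fintype.ofFinite F
  set S := (stab σ (LS.wsp (cs σ) l)).comap (inr : A →* Q ⋊[ζ] A)
  have := comp_zero (cs σ) (fun f : F => act (ζ := ζ) (inr f) l) (fun f => σ (inr f) w)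
    (fun f => mem_act hw _) (h0 _ fun f hf => FPF.rep_sum_fixed (σ.comp inr) w hf) l (· ∈ S.subgroupOf F)
    fun f => mem_stab_iff (fun e => w0 (e.le hw)) _
  rw [Finset.sum_congr rfl (g := fun _ => w) fun (f : F) hf' =>
    hf f ⟨f.2, mem_subgroupOf.1 (Finset.mem_filter.1 hf').2⟩, Finset.sum_const, ← Fintype.card_subtype,
    ← Nat.card_eq_fintype_card, ← Nat.cast_smul_eq_nsmul k] at this
  obtain ⟨a, ha⟩ := card_subgroup_dvd_card (S.subgroupOf F)
  exact hk (by rw [ha, Nat.cast_mul, (smul_eq_zero.1 this).resolve_right w0, zero_mul])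

theorem fix_of_frob' [IsAlgClosed k] [Finite A] {E : Subgroup A} {x : A} (hQ : Group.IsSolvable Q)
    (hs : Group.IsSolvable E) (hr : (orderOf x).Prime) (hx : x ∈ normalizer (E : Set A))
    (hkQ : (Nat.card Q : k) ≠ 0) (hkE : (Nat.card E : k) ≠ 0) (hkx : (orderOf x : k) ≠ 0)
    (hrQ : ¬ orderOf x ∣ Nat.card Q) (hrE : ¬ orderOf x ∣ Nat.card E) (hC : E ⊓ centralizer {x} = ⊥)
    {W : Submodule k V} (hQW : ∀ g, ∀ v ∈ W, σ (inl g) v ∈ W) (hEW : ∀ g ∈ E, ∀ v ∈ W, σ (inr g) v ∈ W)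
    (hxW : inr x ∈ stab σ W) (h0 : ∀ v ∈ W, (∀ f ∈ E, σ (inr f) v = v) → v = 0) {c : Q}
    (hc : ∀ v, σ (inr x) v = v → σ (inl c) v = v) {v : V} (hv : v ∈ W) : σ (inl c) v = v := by
  have := finite_sd (φ := ζ)
  let N : Subgroup (Q ⋊[ζ] A) := E.comap rightHom
  have hN : Nat.card N = Nat.card Q * Nat.card E := by
    refine Nat.eq_of_mul_eq_mul_right (Nat.pos_of_ne_zero E.index_ne_zero_of_finite) ?_
    rw [mul_assoc, card_mul_index, ← index_comap_of_surjective _ (rightHom_surjective (φ := ζ)),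
      card_mul_index, Nat.card_congr equivProd, Nat.card_prod]
  have ho : orderOf (inr x : Q ⋊[ζ] A) = orderOf x := orderOf_injective _ inr_injective x
  have hQN : ∀ n, inl n ∈ N := fun n => by simp [N]
  have h1 : Group.IsSolvable N := Group.isSolvable_of_ker_le_range (inl.codRestrict N hQN)
    (rightHom.subgroupComap E) fun y hy => ⟨y.1.left, Subtype.ext
      (SemidirectProduct.ext rfl (show y.1.right = 1 from congrArg Subtype.val hy).symm)⟩
  refine fix_of_frob σ (N := N) (E := E.map inr) h1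
    (by rw [hN, Nat.cast_mul]; exact mul_ne_zero hkQ hkE) (x := inr x) (by rwa [ho]) (by rwa [ho])
    (by rw [ho, hN, hr.dvd_mul]; exact not_or.2 ⟨hrQ, hrE⟩) (le_normalizer_comap _ hx)
    (map_le_iff_le_comap.2 fun _ h => h) (le_normalizer_map _ ⟨x, hx, rfl⟩) (eq_bot_iff.2 ?_)
    (fun y hy w hw => ?_) hxW (fun w hw hf => h0 w hw fun f h => hf _ ⟨f, h, rfl⟩) (hQN c) hc hv
  · rintro _ ⟨⟨f, hf, rfl⟩, h⟩
    rw [mem_bot.1 (hC.le ⟨hf, mem_centralizer_singleton_iff.2 (inr_injective (φ := ζ) (by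
      rw [map_mul, map_mul]; exact mem_centralizer_singleton_iff.1 h))⟩), map_one]
    exact one_mem _
  · rw [← inl_left_mul_inr_right y, ← rho_rho]
    exact hQW _ _ (hEW _ hy w hw)

theorem key_rep [IsAlgClosed k] [Finite A] [Nontrivial V]
    (hirr : ∀ U : Submodule k V, (∀ g, ∀ w ∈ U, σ g w ∈ U) → U = ⊥ ∨ U = ⊤) {F : Subgroup A} {x : A}
    {q : ℕ} (hq : q.Prime) (hQ : IsPGroup q Q) (hs : Group.IsSolvable F) (hr : (orderOf x).Prime)
    (hx : x ∈ normalizer (F : Set A)) (hcop : (Nat.card A).Coprime (Nat.card Q))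
    (hkA : (Nat.card A : k) ≠ 0) (hkQ : (Nat.card Q : k) ≠ 0) (hrF : ¬ orderOf x ∣ Nat.card F)
    (hF : ∀ F₁ ≤ F, F₁ ⊓ centralizer {x} ≠ ⊥ →
      F ⊓ centralizer {x} ≤ F₁ ∧ F ≤ normalizer (F₁ : Set A))
    (hQF : fix ζ F = ⊥) (h0 : ∀ v, (∀ f ∈ F, σ (inr f) v = v) → v = 0) {c : Q}
    (hc : ∀ v, σ (inr x) v = v → σ (inl c) v = v) : σ (inl c) = 1 := by
  have := Fact.mk hq
  have hdv : ∀ {n}, n ∣ Nat.card A → (n : k) ≠ 0 := fun ⟨a, ha⟩ e => hkA (by
    rw [ha, Nat.cast_mul, e, zero_mul])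
  by_contra hne
  obtain ⟨l, hl⟩ := exists_not_mem_Kw hirr hne
  obtain ⟨S, hS⟩ : ∃ S : Subgroup A, S = (stab σ (LS.wsp (cs σ) l)).comap inr := ⟨_, rfl⟩
  have mS : ∀ {a}, a ∈ S ↔ ∀ v ∈ LS.wsp (cs σ) l, σ (inr a) v ∈ LS.wsp (cs σ) l := by
    subst hS; exact Iff.rfl
  have hxS : x ∈ S := mS.2 (mem_stab_of_Kw hr hc hl)
  have hx1 : x ∈ normalizer ((F ⊓ S : Subgroup A) : Set A) :=
    inf_normalizer_le_normalizer_inf ⟨hx, le_normalizer hxS⟩
  have hr1 : ¬ orderOf x ∣ Nat.card (F ⊓ S : Subgroup A) := fun e =>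
    hrF (e.trans (card_dvd_of_le inf_le_left))
  by_cases hC : F ⊓ S ⊓ centralizer {x} = ⊥
  · have := hQ.isNilpotent
    exact hl (mem_Kw.2 fun v hv => fix_of_frob' inferInstance
      (Core.isSolvable_of_le (inf_le_left : F ⊓ S ≤ F)) hr hx1 hkQ (hdv (card_subgroup_dvd_card _))
      (hdv (orderOf_dvd_natCard x))
      (hr.coprime_iff_not_dvd.1 (hcop.coprime_dvd_left (orderOf_dvd_natCard x))) hr1 hC
      (fun g v hv => mem_inl hv g) (fun g hg => mS.1 hg.2) (mS.1 hxS)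
      (fun w hw hf => eq_zero_of_fix_stab (hdv (card_subgroup_dvd_card F)) h0 hw (hS ▸ hf)) hc hv)
  obtain ⟨hF1, hF2⟩ := hF _ inf_le_left hC
  let L : Subgroup Q := ⨅ f : {f : A // f ∈ F ∧ f ∉ S}, Kw σ (act (ζ := ζ) (inr (f : A))⁻¹ l)
  have : L.Normal := normal_iInf_normal fun f => Kw_normal _
  have hcL : c ∈ L := mem_iInf.2 fun ⟨f, hf, hfS⟩ => by
    by_contra hn
    refine hfS (FPF.mem_of_comm_mem inf_le_left hF2 (y := x⁻¹) (inv_mem hx1) (by
      rw [orderOf_inv]; exact hr.coprime_iff_not_dvd.2 hr1) (fun g hg e => hF1 ⟨hg,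
        mem_centralizer_singleton_iff.2 (Commute.inv_left_iff.1 e).symm.eq⟩) hf ⟨F.mul_mem
        ((mem_normalizer_iff.1 (inv_mem hx) f).1 hf) (F.inv_mem hf), ?_⟩).2
    rw [inv_inv, mul_assoc, mul_assoc]
    refine S.mul_mem (S.inv_mem hxS) (mS.2 fun v hv => ?_)
    have := mem_act (mem_stab_of_Kw hr hc hn _ (mem_act hv _)) (inr f)⁻¹⁻¹
    rw [act_inv_act, inv_inv] at this
    rwa [map_mul inr, map_mul inr, map_inv (inr : A →* Q ⋊[ζ] A), ← rho_rho, ← rho_rho]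
  obtain ⟨z', hz', hzK', hz''⟩ := exists_mem_ZK hq hQ (K := Kw σ l) (L := L) fun h => hl (h hcL)
  obtain ⟨z, hzL, y, hy, rfl⟩ := mem_sup_of_normal_right.1 hz'
  have hz : z ∈ ZK q (Kw σ l) := (mul_mem_cancel_right (le_ZK hy)).1 hz''
  have sc : ∀ v ∈ LS.wsp (cs σ) l, (Nat.card Q : k) • σ (inl z) v = l z • v := fun v hv => by
    rw [← hv z, cs, LinearMap.sum_apply, Finset.sum_congr rfl (g := fun _ => σ (inl z) v) fun g _ => ?_]
    · simp [Nat.cast_smul_eq_nsmul]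
    · have := congrArg (σ (inl (g * z))) (mem_Kw.1 ((mem_ZK.1 hz).1 g) _ (mem_inl hv g⁻¹))
      rw [rho_inl, rho_inl, rho_inl, mul_inv_cancel_left, mul_inv_cancel_right] at this
      exact this.symm
  have hFQ := hcop.coprime_dvd_left (card_subgroup_dvd_card F)
  have hFq : (Nat.card F).Coprime q := hFQ.coprime_dvd_right (by
    have : Nontrivial Q := ⟨c, 1, fun e => hl (e ▸ one_mem _)⟩
    obtain ⟨n, hn, e⟩ := hQ.nontrivial_iff_card.1 this
    exact e ▸ dvd_pow_self q hn.ne')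
  refine hzK' (mul_mem (mem_of_norm (ζ := ζ) (E₀ := S) hs hFQ hFq hQF hz
    (fun f hf hfS => QuotientGroup.eq.2 (mem_Kw.2 fun v hv => ?_)) fun f hf hfS => mem_Kw.2
      fun v hv => ?_) hy)
  · have e : σ (inl (ζ f z)) v = σ (inl z) v := smul_right_injective V hkQ (by
      change (Nat.card Q : k) • _ = (Nat.card Q : k) • _
      rw [sc v hv, inl_aut, ← rho_rho, ← rho_rho, ← map_smul, sc _ (mS.1 (S.inv_mem hfS) v hv), map_smul,
        rho_rho, ← map_mul, mul_inv_cancel, map_one, map_one, End.one_apply])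
    rw [← rho_inl, ← e, rho_inl, inv_mul_cancel, map_one, map_one, End.one_apply]
  · rw [inl_aut, ← rho_rho, ← rho_rho, map_inv, mem_Kw.1 (mem_iInf.1 hzL ⟨f, hf, hfS⟩) _ (mem_act hv _),
      rho_rho, mul_inv_cancel, map_one, End.one_apply]

end Rep

theorem isElem_ker {V : Type u} [CommGroup V] (p : ℕ) :
    IsElementaryAbelian p (powMonoidHom p : V →* V).ker := ⟨inferInstance, fun _ ha => ha⟩

theorem ker_inv {V : Type u} [CommGroup V] (p : ℕ) (α : MulAut V) :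
    ∀ w ∈ (powMonoidHom p : V →* V).ker, α w ∈ (powMonoidHom p : V →* V).ker := fun w hw => by
  rw [MonoidHom.mem_ker, powMonoidHom_apply, ← map_pow, show w ^ p = 1 from hw, map_one]

theorem exists_mem_ker {V : Type u} [CommGroup V] [Finite V] {p : ℕ} (hp : p.Prime) (hV : IsPGroup p V)
    {U : Subgroup V} (hU : U ≠ ⊥) : U ⊓ (powMonoidHom p : V →* V).ker ≠ ⊥ := by
  have := Fact.mk hp
  obtain ⟨y, hy⟩ := exists_prime_orderOf_dvd_card' (G := U) p
    (Core.dvd_card_of_isPGroup_of_ne_bot (hV.to_subgroup U) hU)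
  refine fun e => hp.ne_one ?_
  rw [← hy, orderOf_eq_one_iff]
  exact Subtype.ext (e.le ⟨y.2, congrArg Subtype.val (hy ▸ pow_orderOf_eq_one y : y ^ p = 1)⟩)

theorem natCast_ne_zero_of_not_dvd {k : Type*} [Field k] {p : ℕ} [CharP k p] {n : ℕ} (h : ¬ p ∣ n) :
    (n : k) ≠ 0 := fun e => h ((CharP.cast_eq_zero_iff k p n).1 e)

/-- The key lemma. -/
theorem key2 [Finite A] [Finite Q] {V : Type u} [CommGroup V] [Finite V] {ψ : A →* MulAut V}
    {ρ : Q →* MulAut V} (hc : ∀ a z v, ψ a (ρ z v) = ρ (ζ a z) (ψ a v)) {F : Subgroup A} {x : A}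
    {p q : ℕ} (hp : p.Prime) (hV : IsPGroup p V) (hq : q.Prime) (hQ : IsPGroup q Q) (hpq : p ≠ q)
    (hs : Group.IsSolvable F) (hr : (orderOf x).Prime) (hx : x ∈ normalizer (F : Set A))
    (hAQ : (Nat.card A).Coprime (Nat.card Q)) (hAV : (Nat.card A).Coprime (Nat.card V))
    (hrF : ¬ orderOf x ∣ Nat.card F) (hF : ∀ F₁ ≤ F, F₁ ⊓ centralizer {x} ≠ ⊥ →
      F ⊓ centralizer {x} ≤ F₁ ∧ F ≤ normalizer (F₁ : Set A))
    (hQF : fix ζ F = ⊥) (hVF : fix ψ F = ⊥) {c : Q} (hcv : ∀ v, ψ x v = v → ρ c v = v) (v : V) :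
    ρ c v = v := by
  have := Fact.mk hp
  have := Fact.mk hq
  have := Fintype.ofFinite Q
  by_contra hne
  obtain ⟨U, hU, hcK⟩ := exists_minInv_of_ne (by
    obtain ⟨a, ha⟩ := hQ.exists_card_eq
    obtain ⟨b, hb⟩ := hV.exists_card_eq
    rw [ha, hb]
    exact Nat.coprime_pow_primes a b hq hp hpq.symm) hne
  have hUΩ : U ≤ (powMonoidHom p : V →* V).ker := inf_eq_left.1 ((hU.min _ inf_le_left
    fun z w hw => ⟨hU.inv z w hw.1, ker_inv p _ w hw.2⟩).resolve_left (exists_mem_ker hp hV hU.ne))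
  have hpA : ¬ p ∣ Nat.card A := fun h => hp.ne_one (Nat.eq_one_of_dvd_coprimes hAV h
    ((Core.dvd_card_of_isPGroup_of_ne_bot (hV.to_subgroup U) hU.ne).trans (card_subgroup_dvd_card U)))
  have hpQ : ¬ p ∣ Nat.card Q := fun h => by
    obtain ⟨n, hn⟩ := hQ.exists_card_eq
    exact hpq ((Nat.prime_dvd_prime_iff_eq hp hq).1 (hp.dvd_of_dvd_pow (hn ▸ h)))
  let θ : Q ⋊[ζ] A →* MulAut V := lift ρ ψ fun a => by
    ext z v
    simp [hc]
  let τ := Fusion.cqRep (isElem_ker (V := V) p) θ fun g => ker_inv p _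
  have t1 : ∀ z w, (τ (inl z) w).toG = ρ z w.toG := fun z w => by
    rw [Fusion.toG_cqRep, lift_inl]
  have t2 : ∀ a w, (τ (inr a) w).toG = ψ a w.toG := fun z w => by
    rw [Fusion.toG_cqRep, lift_inr]
  have := finite_sd (φ := ζ)
  obtain ⟨W, _, _, _, _, σ, hirr, h1, hd⟩ := exists_irred_algClosed τ (inl c) (Nat.card Q)
    (natCast_ne_zero_of_not_dvd hpQ) (by rw [← map_pow, ← map_pow, pow_card_eq_one', map_one, map_one])
    fun e => hcK fun u hu => by
      have := t1 c (PLocal.ElemMod.ofG _ u (hUΩ hu))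
      rw [e] at this
      exact this.symm
  refine h1 (key_rep hirr hq hQ hs hr hx hAQ (natCast_ne_zero_of_not_dvd hpA)
    (natCast_ne_zero_of_not_dvd hpQ) hrF hF hQF (fun w hw => FPF.fix_of_rankDom hd (A := F.map inr)
      (natCast_ne_zero_of_not_dvd fun h => hpA (h.trans ((card_map_dvd _ _).trans
        (card_subgroup_dvd_card F)))) (fun y hy => PLocal.ElemMod.toG_eq_one.1 (hVF.le (mem_fix.2
          fun a ha => by rw [← t2, hy _ ⟨a, ha, rfl⟩]))) w (by rintro _ ⟨a, ha, rfl⟩; exact hw a ha))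
    (fix_transfer hd (natCast_ne_zero_of_not_dvd fun h => hpA (h.trans ?_)) fun y hy =>
      PLocal.ElemMod.toG_injective (by rw [t1, hcv _ (by rw [← t2, hy])])))
  rw [orderOf_injective _ inr_injective]
  exact orderOf_dvd_natCard x

theorem cls_cop [Finite A] {F : Subgroup A} [F.Normal] (hn : Group.IsNilpotent F) {x : A}
    (hr : (orderOf x).Prime) (hrF : ¬ orderOf x ∣ Nat.card F)
    (hF : ∀ F₁ ≤ F, F₁ ⊓ centralizer {x} ≠ ⊥ →
      F ⊓ centralizer {x} ≤ F₁ ∧ F ≤ normalizer (F₁ : Set A)) :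
    Cls (zpowers x) fun (G : Type u) _ φ => fix φ F = ⊥ ∧ (Nat.card A).Coprime (Nat.card G) where
  quot {G G'} _ _ _ φ φ' f hf he hc p hp hk hP := by
    have hi : AutInv φ f.ker := fun a x hx => by
      rw [MonoidHom.mem_ker, he, MonoidHom.mem_ker.1 hx, map_one]
    have tr : ∀ (B : Subgroup A) (g : G), f g ∈ fix φ' B → (g : G ⧸ f.ker) ∈ fix (quotAut φ _ hi) B :=
      fun B g hg => mem_fix.2 fun a ha => by
        rw [quotAut_mk, QuotientGroup.eq, MonoidHom.mem_ker, map_mul, map_inv, he, mem_fix.1 hg a ha,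
          inv_mul_cancel]
    refine ⟨⟨eq_bot_iff.2 fun y hy => ?_, hP.2.coprime_dvd_right (card_dvd_of_surjective f hf)⟩,
      fun y hy => ?_⟩
    · obtain ⟨g, rfl⟩ := hf y
      have := tr F g hy
      rw [fix_quot_eq_bot hn hP.1 hi hp hk] at this
      exact (QuotientGroup.eq_one_iff g).1 this
    · obtain ⟨g, rfl⟩ := hf y
      obtain ⟨g', hg', e⟩ := exists_fixed_lift (φ := φ.comp (zpowers x).subtype) (N := f.ker)
        (fun a => hi a) ((hP.2.coprime_dvd_left (card_subgroup_dvd_card _)).coprime_dvd_right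
          (card_subgroup_dvd_card _)) (Or.inl inferInstance) (y := g) (tr _ g hy)
      refine ⟨g', hg', ?_⟩
      have := MonoidHom.mem_ker.1 (QuotientGroup.eq.1 e)
      rwa [map_mul, map_inv, inv_mul_eq_one] at this
  key {G} _ _ φ N _ hN hc p q hp hq hpq hNp hP c hcq hcv v hv := by
    have := Core.pCore_characteristic q (G ⧸ N)
    have hZi : AutInv (quotAut φ N hN) (pCore q (G ⧸ N)) := autInv_of_characteristic _
    let ρ₀ : G ⧸ N →* MulAut N := QuotientGroup.lift N MulAut.conjNormal fun x hx =>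
      MulEquiv.ext fun v => Subtype.ext (by
        have := congrArg Subtype.val (mul_comm (⟨x, hx⟩ : N) v)
        simp only [coe_mul] at this
        simp [this])
    have := key2 (ψ := subAut φ N hN) (ζ := subAut (quotAut φ N hN) _ hZi)
      (ρ := ρ₀.comp (pCore q (G ⧸ N)).subtype) (F := F) (x := x) ?_ hp hNp hq
      (Core.isPGroup_pCore q (G ⧸ N)) hpq inferInstance hr (le_normalizer_of_normal (mem_top x))
      (hP.2.coprime_dvd_right ((card_subgroup_dvd_card _).trans (card_quotient_dvd_card N)))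
      (hP.2.coprime_dvd_right (card_subgroup_dvd_card N)) hrF hF
      (fix_sub_eq_bot (fix_quot_eq_bot hn hP.1 hN hp hNp) hZi) (fix_sub_eq_bot hP.1 hN)
      (c := ⟨c, hcq⟩) (fun w hw => Subtype.ext (mul_inv_eq_iff_eq_mul.2 (hcv w w.2
        (mem_fix.2 fun a ha => (zpowers_le.2 (congrArg Subtype.val hw) :
          zpowers x ≤ (MulAction.stabilizer (MulAut G) (w : G)).comap φ) ha)))) ⟨v, hv⟩
    · exact mul_inv_eq_iff_eq_mul.1 (congrArg Subtype.val this)
    · rintro a ⟨z, hz⟩ v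
      obtain ⟨g, rfl⟩ := QuotientGroup.mk_surjective z
      refine Subtype.ext ?_
      change φ a (g * v * g⁻¹) = φ a g * φ a v * (φ a g)⁻¹
      rw [map_mul, map_mul, map_inv]

theorem triv_cop [Finite A] {F H : Subgroup A} [F.Normal] (hH : (Nat.card H).Prime)
    (hcop : (Nat.card H).Coprime (Nat.card F)) (hnF : ¬ ∃ k, Nat.card H = 2 ^ k + 1) (hFH : ⁅F, H⁆ = F) :
    Triv H fun (G : Type u) _ φ => fix φ F = ⊥ ∧ (Nat.card A).Coprime (Nat.card G) := by
  intro G _ _ φ hs hP e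
  by_contra hG
  have := not_subsingleton_iff_nontrivial.1 hG
  obtain ⟨p, N, hp, _, hNi, -, hN1, hc, hNp⟩ :=
    exists_inv_elem (φ := φ) (K := ⊤) autInv_top inferInstance top_ne_bot
  have := Fact.mk hp
  have := (nontrivial_iff_ne_bot N).2 hN1
  let τ := Fusion.cqRep (isElem_ker (V := N) p) (subAut φ N hNi) fun g => ker_inv p _
  have h1 := FPF.commutator_le_kerOn_of_fix τ (Q := F) (K := H) le_normalizer_of_normal hH hcop
    (natCast_ne_zero_of_not_dvd fun h => hp.ne_one (Nat.eq_one_of_dvd_coprimes hP.2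
      (h.trans (card_subgroup_dvd_card F)) ((Core.dvd_card_of_isPGroup_of_ne_bot hNp hN1).trans
        (card_subgroup_dvd_card N)))) (Or.inr hnF) (W := ⊤) (fun _ _ _ _ => trivial)
    (fun _ _ _ _ => trivial) fun v _ hv => PLocal.ElemMod.toG_eq_one.1 ((fix_sub_eq_bot e hNi).le
      (mem_fix.2 fun a ha => congrArg PLocal.ElemMod.toG (hv a ha)))
  refine exists_mem_ker hp hNp (U := ⊤) top_ne_bot (eq_bot_iff.2 fun w hw => (fix_sub_eq_bot hP.1 hNi).le
    (mem_fix.2 fun a ha => congrArg PLocal.ElemMod.toG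
      (h1 (hFH.ge ha) (PLocal.ElemMod.ofG _ w hw.2) trivial)))

end CfsgLib.FpfS
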